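import Cfsg.Agent.Lib.ChevField.Fixed
import Cfsg.Agent.Lib.Chev.TorusCard

/-!
Fixed points of a field map: their powers by the order of the kernel of the Cartan map lie in the group over the
fixed field.
-/

set_option autoImplicit false

namespace Cfsg.Agent.Lib.H59.Homocyclic

open Cfsg.Lie Cfsg.Agent.Lib.Chev Cfsg.Agent.Lib.ChevField
open scoped Matrix

universe u v

variable {D : ChevalleyDatum} {C : Cert} {F : Type u} {K : Type v} [Field F] [Field K]

theorem torus_pow_mem (hh : Rooted D C) (f : F →+* K) (σ : K →+* K) (hfix : ∀ x, σ x = x → ∃ y, f y = x)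
    [Finite K] {t : GL D.Idx K} (ht : t ∈ D.diagonalSubgroup K) (he : glMap D σ t = t) :
    t ^ Nat.card ↥(zpowMap Kˣ (cmMat D C)).ker ∈ (D.group F).map (glMap D f) := by
  classical
  set n := Nat.card ↥(zpowMap Kˣ (cmMat D C)).ker with hn
  rw [hh.diagonalSubgroup_eq] at ht
  obtain ⟨c, rfl⟩ := ht
  rw [glMap_torusHom] at he
  let d : ℕ → Kˣ := fun i => Units.map σ.toMonoidHom (c i) * (c i)⁻¹
  have hd : torusHom D K d = 1 := by
    have : d = (fun i => Units.map σ.toMonoidHom (c i)) * c⁻¹ := rfl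
    rw [this, map_mul, map_inv, he, mul_inv_cancel]
  have hk := (hh.toChecked.torusHom_eq_one_iff d).1 hd
  set dk : ↥(zpowMap Kˣ (cmMat D C)).ker := ⟨_, MonoidHom.mem_ker.2 hk⟩ with hdk
  have hpow : ∀ i < D.rank, Units.map σ.toMonoidHom (c i ^ n) = c i ^ n := by
    intro i hi
    have e := congrFun (congrArg Subtype.val (pow_card_eq_one' (x := dk))) ⟨i, hi⟩
    simp only [hdk, SubmonoidClass.coe_pow, Pi.pow_apply, OneMemClass.coe_one, Pi.one_apply] at e
    simp only [d, mul_pow, inv_pow, mul_inv_eq_one] at e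
    rw [map_pow]
    exact e
  have hex : ∀ i, ∃ y : Fˣ, i < D.rank → Units.map f.toMonoidHom y = c i ^ n := by
    intro i
    by_cases hi : i < D.rank
    · obtain ⟨y, hy⟩ := hfix _ (congrArg Units.val (hpow i hi))
      have hy0 : y ≠ 0 := by
        rintro rfl
        exact (c i ^ n).ne_zero (by rw [← hy, map_zero])
      exact ⟨Units.mk0 y hy0, fun _ => Units.ext hy⟩
    · exact ⟨1, fun h => absurd h hi⟩
  choose e hec using hex
  refine ⟨torusHom D F e, hh.diagonal_le_group (by rw [hh.diagonalSubgroup_eq]; exact ⟨e, rfl⟩), ?_⟩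
  rw [glMap_torusHom, ← map_pow]
  exact torusHom_congr fun i hi => by rw [hec i hi, Pi.pow_apply]

theorem torus_mem_normalizer (hh : Rooted D C) (f : F →+* K) (σ : K →+* K) (hσf : ∀ a, σ (f a) = f a)
    (hfix : ∀ x, σ x = x → ∃ y, f y = x) {t : GL D.Idx K} (ht : t ∈ D.diagonalSubgroup K)
    (he : glMap D σ t = t) :
    t ∈ Subgroup.normalizer (((D.group F).map (glMap D f) : Subgroup (GL D.Idx K)) : Set (GL D.Idx K)) := by
  have h := hh.toChecked
  set H := (D.group F).map (glMap D f) with hH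
  have key : ∀ t : GL D.Idx K, t ∈ D.diagonalSubgroup K → glMap D σ t = t → ∀ g ∈ H, t * g * t⁻¹ ∈ H := by
    intro t ht he g hg
    obtain ⟨x, hx, rfl⟩ := hg
    rw [hh.diagonalSubgroup_eq] at ht
    obtain ⟨c, rfl⟩ := ht
    induction hx using Subgroup.closure_induction with
    | mem x hx =>
      obtain ⟨r, a, e⟩ := hx
      have hx' : x = xGL h F r.2 a := Units.ext (by rw [e, coe_xGL, ChevalleyDatum.x, dif_pos r.2])
      subst hx'
      rw [glMap_xGL, h.conj_x]
      have e1 := congrArg (fun g : GL D.Idx K => (g : Matrix D.Idx D.Idx K) (Sum.inr r) (Sum.inr r)) he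
      simp only [coe_glMap, coe_torusHom, Matrix.map_apply, ChevalleyDatum.charDiag, Matrix.diagonal_apply_eq,
        Sum.elim_inr] at e1
      obtain ⟨b, hb⟩ := hfix ((torusFun D c r.1 : K) * f a) (by rw [map_mul, hσf, e1])
      refine ⟨xGL h F r.2 b, Subgroup.subset_closure ⟨r, b, ?_⟩, by rw [glMap_xGL, hb]⟩
      rw [coe_xGL, ChevalleyDatum.x, dif_pos r.2]
    | one => simp
    | mul a b _ _ ha hb => simpa [mul_assoc] using mul_mem ha hb
    | inv a _ ha => simpa [mul_assoc] using inv_mem ha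
  rw [Subgroup.mem_normalizer_iff]
  intro g
  refine ⟨fun hg => key t ht he g hg, fun hg => ?_⟩
  have := key t⁻¹ (inv_mem ht) (by rw [map_inv, he]) _ hg
  simpa [mul_assoc] using this

theorem exists_mul_torus_of_fixed (hh : Rooted D C) (f : F →+* K) (σ : K →+* K) (hσf : ∀ a, σ (f a) = f a)
    (hfix : ∀ x, σ x = x → ∃ y, f y = x) {g : GL D.Idx K} (hg : g ∈ D.group K) (he : glMap D σ g = g) :
    ∃ v ∈ (D.group F).map (glMap D f), ∃ t ∈ D.diagonalSubgroup K, glMap D σ t = t ∧ g = v * t := by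
  obtain ⟨L, hL, b, hb, u, hu, rfl⟩ := hh.exists_canonical hg
  rw [map_mul, map_mul, glMap_nProd] at he
  obtain ⟨eb, eu⟩ := hh.canonical_unique hL (glMap_borel hh σ hb) hb (glMap_rootGen σ hu) hu he
  obtain ⟨u₁, hu₁, t, ht, rfl⟩ := hh.mem_borel_iff.1 hb
  rw [map_mul] at eb
  have e1 : u₁⁻¹ * glMap D σ u₁ = t * (glMap D σ t)⁻¹ := by
    rw [eq_mul_inv_iff_mul_eq, mul_assoc, eb, inv_mul_cancel_left]
  have e2 : u₁⁻¹ * glMap D σ u₁ = 1 := by
    refine Subgroup.mem_bot.1 (hh.posUnipotent_inf_diagonal.le (Subgroup.mem_inf.2 ⟨mul_mem (inv_mem hu₁) (glMap_posUnipotent hh σ hu₁), ?_⟩))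
    rw [e1]
    exact mul_mem ht (inv_mem (glMap_diagonal hh σ ht))
  have fu₁ : glMap D σ u₁ = u₁ := (inv_mul_eq_one.1 e2).symm
  have ft : glMap D σ t = t := by
    rw [fu₁] at eb
    exact mul_left_cancel eb
  obtain ⟨a, ha, rfl⟩ := exists_pos_of_fixed hh f σ hfix hu₁ fu₁
  obtain ⟨c, hc, rfl⟩ := exists_pos_of_fixed hh f σ hfix
    (by rw [hh.toChecked.posUnipotent_eq]; exact rootGen_mono (hh.toChecked.invSet_subset L) hu) eu
  have hn : nProd hh.toChecked K L * glMap D f c ∈ (D.group F).map (glMap D f) := by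
    refine ⟨nProd hh.toChecked F L * c, mul_mem (hh.monomial_le_group (hh.nProd_mem_monomial hL))
      (hh.toChecked.posUnipotent_le_group hc), ?_⟩
    rw [map_mul, glMap_nProd]
  refine ⟨glMap D f a * (t * (nProd hh.toChecked K L * glMap D f c) * t⁻¹), mul_mem ⟨a,
    hh.toChecked.posUnipotent_le_group ha, rfl⟩
    ((Subgroup.mem_normalizer_iff.1 (torus_mem_normalizer hh f σ hσf hfix ht ft) _).1 hn), t, ht, ft, ?_⟩
  group

theorem pow_mem_map_of_fixed [Finite K] (hh : Rooted D C) (f : F →+* K) (σ : K →+* K) (hσf : ∀ a, σ (f a) = f a)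
    (hfix : ∀ x, σ x = x → ∃ y, f y = x) {g : GL D.Idx K} (hg : g ∈ D.group K) (he : glMap D σ g = g) :
    g ^ Nat.card ↥(zpowMap Kˣ (cmMat D C)).ker ∈ (D.group F).map (glMap D f) := by
  obtain ⟨v, hv, t, ht, ft, rfl⟩ := exists_mul_torus_of_fixed hh f σ hσf hfix hg he
  have hn := torus_mem_normalizer hh f σ hσf hfix ht ft
  have key : ∀ k : ℕ, (v * t) ^ k * (t ^ k)⁻¹ ∈ (D.group F).map (glMap D f) := by
    intro k
    induction k with
    | zero => simp
    | succ k ih =>
      have e : (v * t) ^ (k + 1) * (t ^ (k + 1))⁻¹ = v * (t * ((v * t) ^ k * (t ^ k)⁻¹) * t⁻¹) := by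
        rw [pow_succ', pow_succ' t k]
        group
      rw [e]
      exact mul_mem hv ((Subgroup.mem_normalizer_iff.1 hn _).1 ih)
  have h2 := mul_mem (key (Nat.card ↥(zpowMap Kˣ (cmMat D C)).ker)) (torus_pow_mem hh f σ hfix ht ft)
  simpa using h2

end Cfsg.Agent.Lib.H59.Homocyclic
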