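import Cfsg.Agent.Lib.H59.Homocyclic.Coweight
import Cfsg.Agent.Lib.Chev.TorusCard
import Cfsg.Agent.Lib.ChevCent.Lemmas

/-!
The torsion of the split torus as the coweights modulo `m`.
-/

set_option autoImplicit false

namespace Cfsg.Agent.Lib.H59.Homocyclic

open Cfsg.Lie Cfsg.Agent.Lib.Chev
open scoped Matrix

variable {D : ChevalleyDatum} {C : Cert} {K : Type*} [Field K] {m : ℕ}

theorem exists_zmodHom [Finite K] (hm : m ∣ Nat.card K - 1) (hm0 : 0 < m) :
    ∃ z : Multiplicative (ZMod m) →* Kˣ, Function.Injective z := by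
  classical
  haveI : Fintype K := Fintype.ofFinite K
  haveI : NeZero m := ⟨by omega⟩
  obtain ⟨g, hg⟩ := IsCyclic.exists_monoid_generator (α := Kˣ)
  have hog : orderOf g = Nat.card Kˣ := orderOf_eq_card_of_forall_mem_powers hg
  have hcu : Nat.card Kˣ = Nat.card K - 1 := by
    rw [Nat.card_eq_fintype_card, Fintype.card_units, Nat.card_eq_fintype_card]
  set ζ := g ^ (Nat.card Kˣ / m) with hζ
  have hpos : 0 < Nat.card Kˣ := Nat.card_pos
  have hoz : orderOf ζ = m := by
    rw [hζ, orderOf_pow, hog, Nat.gcd_eq_right (Nat.div_dvd_of_dvd (hcu ▸ hm)),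
      Nat.div_div_self (hcu ▸ hm) (by omega)]
  refine ⟨{ toFun := fun a => ζ ^ a.toAdd.val, map_one' := by simp, map_mul' := fun a b => ?_ }, fun a b e => ?_⟩
  · rw [← pow_add, toAdd_mul, ZMod.val_add, pow_eq_pow_iff_modEq, hoz]
    exact Nat.mod_modEq _ _
  · have e' : ζ ^ a.toAdd.val = ζ ^ b.toAdd.val := e
    have := pow_injOn_Iio_orderOf (show a.toAdd.val ∈ Set.Iio (orderOf ζ) by
        rw [hoz]; exact ZMod.val_lt _) (show b.toAdd.val ∈ Set.Iio (orderOf ζ) by
        rw [hoz]; exact ZMod.val_lt _) e'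
    exact ZMod.val_injective m this

/-- The value of a root on a torsion element. -/
def zval (z : Multiplicative (ZMod m) →* Kˣ) (f : Fin D.nroots → ZMod m) (s : ℕ) : Kˣ :=
  if hs : s < D.nroots then z (Multiplicative.ofAdd (f ⟨s, hs⟩)) else 1

/-- A torsion element of the torus. -/
def tor (z : Multiplicative (ZMod m) →* Kˣ) : Multiplicative (Fin D.nroots → ZMod m) →* GL D.Idx K where
  toFun f := diagGL D (zval z f.toAdd)
  map_one' := Units.ext (by
    rw [coe_diagGL, Units.val_one, ← charDiag_one (D := D) (F := K)]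
    congr 1
    funext s
    unfold zval
    split_ifs with hs <;> simp)
  map_mul' f g := by
    rw [diagGL_mul]
    congr 1
    funext s
    unfold zval
    split_ifs with hs <;> simp [ofAdd_add]

variable {z : Multiplicative (ZMod m) →* Kˣ}

theorem coe_tor (f : Fin D.nroots → ZMod m) :
    ((tor z (Multiplicative.ofAdd f) : GL D.Idx K) : Matrix D.Idx D.Idx K) = D.charDiag K (zval z f) := rfl

theorem tor_injective (hz : Function.Injective z) : Function.Injective (tor (D := D) z) := by
  intro f g e
  funext s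
  have e1 := congrArg (fun g : GL D.Idx K => (g : Matrix D.Idx D.Idx K) (Sum.inr s) (Sum.inr s)) e
  simp only [tor, MonoidHom.coe_mk, OneHom.coe_mk, coe_diagGL, ChevalleyDatum.charDiag, Matrix.diagonal_apply_eq,
    Sum.elim_inr] at e1
  have e2 : zval z f.toAdd s.val = zval z g.toAdd s.val := Units.ext e1
  simp only [zval, dif_pos s.isLt, Fin.eta] at e2
  exact Multiplicative.ofAdd.injective (hz e2)

theorem tor_smul (f : Fin D.nroots → ZMod m) (n : ℕ) :
    tor z (Multiplicative.ofAdd ((n : ZMod m) • f)) = tor z (Multiplicative.ofAdd f) ^ n := by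
  rw [← map_pow, ← ofAdd_nsmul, Nat.cast_smul_eq_nsmul]

/-- The coordinates of a coweight on the fundamental coroots. -/
def zcoord (z : Multiplicative (ZMod m) →* Kˣ) (lam : Fin D.rank → ZMod m) (i : ℕ) : Kˣ :=
  if hi : i < D.rank then z (Multiplicative.ofAdd (lam ⟨i, hi⟩)) else 1

theorem zval_iota (lam : Fin D.rank → ZMod m) {s : ℕ} (hs : s < D.nroots) :
    zval z (iota D (ZMod m) lam) s = torusFun D (zcoord z lam) s := by
  rw [zval, dif_pos hs, iota_apply, torusFun, Finset.prod_range, ofAdd_sum, map_prod]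
  refine Finset.prod_congr rfl fun i _ => ?_
  rw [zcoord, dif_pos i.2, ← zsmul_eq_mul, ofAdd_zsmul, map_zpow]

theorem tor_iota (lam : Fin D.rank → ZMod m) :
    tor z (Multiplicative.ofAdd (iota D (ZMod m) lam)) = torusHom D K (zcoord z lam) := by
  refine Units.ext ?_
  rw [coe_tor, coe_torusHom]
  unfold ChevalleyDatum.charDiag
  congr 1
  funext x
  rcases x with i | s
  · rfl
  · simp only [Sum.elim_inr]
    rw [zval_iota lam s.2]

theorem iota_injective (h : Checked D C) (hz : Function.Injective z) [Finite K]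
    (hcop : Nat.Coprime m (Nat.card ↥(zpowMap Kˣ (cmMat D C)).ker)) :
    Function.Injective (iota D (ZMod m)) := by
  rw [← LinearMap.ker_eq_bot, LinearMap.ker_eq_bot']
  intro lam hl
  have h1 : torusHom D K (zcoord z lam) = 1 := by
    rw [← tor_iota, hl, ofAdd_zero, map_one]
  have h2 := (h.torusHom_eq_one_iff _).1 h1
  set c : ↥(zpowMap Kˣ (cmMat D C)).ker := ⟨_, MonoidHom.mem_ker.2 h2⟩ with hc
  have hm : c ^ m = 1 := by
    refine Subtype.ext (funext fun i => ?_)
    show zcoord z lam i.val ^ m = 1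
    rw [zcoord, dif_pos i.2, ← map_pow, ← ofAdd_nsmul, nsmul_eq_mul, ZMod.natCast_self, zero_mul, ofAdd_zero,
      map_one]
  have hone : c = 1 := by
    rw [← orderOf_eq_one_iff]
    exact Nat.eq_one_of_dvd_coprimes hcop (orderOf_dvd_of_pow_eq_one hm) (orderOf_dvd_natCard c)
  funext i
  have e := congrFun (congrArg Subtype.val hone) i
  simp only [hc, zcoord, dif_pos i.2, OneMemClass.coe_one, Pi.one_apply] at e
  exact hz (e.trans (map_one z).symm)

section Checked

variable (h : Checked D C)
include h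

theorem tor_mem (hh : Rooted D C) {f : Fin D.nroots → ZMod m} (hf : f ∈ CW D (ZMod m)) :
    tor z (Multiplicative.ofAdd f) ∈ D.diagonalSubgroup K := by
  obtain ⟨lam, rfl⟩ := hf
  rw [hh.diagonalSubgroup_eq, tor_iota]
  exact ⟨_, rfl⟩

theorem tor_conj_xg {f : Fin D.nroots → ZMod m} (hf : f ∈ CW D (ZMod m)) (s : Fin D.nroots) (a : K) :
    tor z (Multiplicative.ofAdd f) * ChevCent.xg h s.val a * (tor z (Multiplicative.ofAdd f))⁻¹ =
      ChevCent.xg h s.val ((z (Multiplicative.ofAdd (f s)) : K) * a) := by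
  obtain ⟨lam, rfl⟩ := hf
  have e : zval z (iota D (ZMod m) lam) s.val = z (Multiplicative.ofAdd (iota D (ZMod m) lam s)) := by
    rw [zval, dif_pos s.2]
  rw [tor_iota, ← e, zval_iota lam s.2]
  refine Units.ext ?_
  have := congrArg (fun g : GL D.Idx K => (g : Matrix D.Idx D.Idx K)) (h.conj_x (c := zcoord z lam) s.2 a)
  simp only [Units.val_mul, coe_xGL] at this
  simp only [Units.val_mul, ChevCent.coe_xg]
  exact this

theorem nProd_conj_tor {L : List ℕ} (hL : IsWord D L) (f : Fin D.nroots → ZMod m) :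
    nProd h K L * tor z (Multiplicative.ofAdd f) =
      tor z (Multiplicative.ofAdd (act (wperm h L) f)) * nProd h K L := by
  induction L with
  | nil => rw [wperm_nil, act_one]; simp [nProd]
  | cons i L ih =>
    have hi := hL.cons.1
    have step : ∀ g : Fin D.nroots → ZMod m, nS h K i * tor z (Multiplicative.ofAdd g) =
        tor z (Multiplicative.ofAdd (act (sigma h i) g)) * nS h K i := by
      intro g
      refine Units.ext ?_
      rw [Units.val_mul, Units.val_mul, coe_nS h hi, coe_tor, coe_tor, h.nMat_mul_charDiag hi]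
      congr 1
      unfold ChevalleyDatum.charDiag
      congr 1
      funext x
      rcases x with j | s
      · rfl
      · simp only [Sum.elim_inr]
        rw [zval, dif_pos (h.refl_lt hi s.2), zval, dif_pos s.2, act_apply, h.sigma_inv]
        congr 4
        exact Fin.ext (h.sigma_val hi s).symm
    rw [nProd_cons, mul_assoc, ih hL.cons.2, ← mul_assoc, step, wperm_cons, act_mul, mul_assoc]

end Checked

theorem tor_conj_word (h : Checked D C) {f : Fin D.nroots → ZMod m} (hf : f ∈ CW D (ZMod m))
    (L : List ℕ) (hL : ∀ r ∈ L, r < D.nroots) (co : ℕ → K) :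
    tor z (Multiplicative.ofAdd f) * ChevCent.word h L co * (tor z (Multiplicative.ofAdd f))⁻¹ =
      ChevCent.word h L (fun r => (zval z f r : K) * co r) := by
  induction L with
  | nil => simp [ChevCent.word_nil]
  | cons r L ih =>
    rw [ChevCent.word_cons, ChevCent.word_cons, ← ih (fun x hx => hL x (List.mem_cons_of_mem _ hx)),
      show zval z f r = z (Multiplicative.ofAdd (f ⟨r, hL r List.mem_cons_self⟩)) by
        rw [zval, dif_pos (hL r List.mem_cons_self)],
      ← tor_conj_xg h hf ⟨r, hL r List.mem_cons_self⟩ (co r)]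
    group

/-- A positive unipotent element commuting with a set of torsion elements commutes with the torsion elements
which vanish at the roots where the set vanishes. -/
theorem commute_of_vanish (hh : Rooted D C) (hz : Function.Injective z)
    {A0 : Set (Fin D.nroots → ZMod m)} (hA : ∀ a ∈ A0, a ∈ CW D (ZMod m)) {u : GL D.Idx K}
    (hu : u ∈ D.posUnipotent K) (hc : ∀ a ∈ A0, Commute (tor z (Multiplicative.ofAdd a)) u)
    {f : Fin D.nroots → ZMod m} (hf : f ∈ CW D (ZMod m))
    (hv : ∀ s, (∀ a ∈ A0, a s = 0) → f s = 0) : Commute (tor z (Multiplicative.ofAdd f)) u := by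
  have h := hh.toChecked
  obtain ⟨co, rfl⟩ := ChevCent.exists_word_of_mem_pos hh hu
  have hpos : ∀ r ∈ D.posRoots, r ∈ posSet D := fun r hr => h.mem_posRoots.1 hr
  have hlt : ∀ r ∈ D.posRoots, r < D.nroots := fun r hr => (hpos r hr).2
  have key : ∀ r ∈ D.posRoots, (zval z f r : K) * co r = co r := by
    intro r hr
    by_cases h0 : co r = 0
    · rw [h0, mul_zero]
    · have hz0 : f ⟨r, hlt r hr⟩ = 0 := by
        refine hv _ fun a ha => ?_
        have e : ChevCent.word h D.posRoots (fun r => (zval z a r : K) * co r) =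
            ChevCent.word h D.posRoots co := by
          rw [← tor_conj_word h (hA a ha) _ hlt co, (hc a ha).eq, mul_inv_cancel_right]
        have e2 := ChevCent.word_injective hh h.posRoots_pairwise hpos e r hr
        have e3 : (zval z a r : K) = 1 := (mul_eq_right₀ h0).1 e2
        rw [zval, dif_pos (hlt r hr)] at e3
        exact hz ((Units.ext e3 : z (Multiplicative.ofAdd (a ⟨r, hlt r hr⟩)) = 1).trans (map_one z).symm)
      rw [zval, dif_pos (hlt r hr), hz0, ofAdd_zero, map_one, Units.val_one, one_mul]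
  refine (commute_iff_eq _ _).2 (mul_inv_eq_iff_eq_mul.1 ?_)
  rw [tor_conj_word h hf _ hlt co]
  exact ChevCent.word_congr _ key

end Cfsg.Agent.Lib.H59.Homocyclic
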