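import Cfsg.Agent.Lib.H59.Homocyclic.Arith
import Cfsg.Agent.Lib.H59.Homocyclic.Torus
import Cfsg.Agent.Lib.H59.Homocyclic.Descend
import Cfsg.Agent.Lib.Chev.Orders
import Mathlib.FieldTheory.Finite.Extension

/-!
Sylow subgroups for primes away from the characteristic and the Weyl group are homocyclic.
-/

set_option autoImplicit false

namespace Cfsg.Agent.Lib.H59.Homocyclic

open Cfsg.Lie Cfsg.Agent.Lib.Chev Cfsg.Agent.Lib.ChevField
open scoped Matrix

variable {D : ChevalleyDatum} {C : Cert}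

theorem isUnit_natCast {r v n : ℕ} [Fact r.Prime] (hn : ¬ r ∣ n) : IsUnit (n : ZMod (r ^ v)) :=
  (ZMod.isUnit_iff_coprime _ _).2 (Nat.Coprime.pow_right v (((Fact.out : r.Prime).coprime_iff_not_dvd.2 hn).symm))

theorem isLocalRing_zmod {r v : ℕ} [Fact r.Prime] (hv : 0 < v) : IsLocalRing (ZMod (r ^ v)) := by
  haveI : Fact (1 < r ^ v) := ⟨Nat.one_lt_pow (by omega) (Fact.out : r.Prime).one_lt⟩
  haveI : NeZero (r ^ v) := ⟨pow_ne_zero _ (Fact.out : r.Prime).ne_zero⟩
  refine IsLocalRing.of_isUnit_or_isUnit_one_sub_self fun a => ?_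
  by_cases ha : r ∣ a.val
  · right
    have h1 : ¬ r ∣ (1 + r ^ v - a.val) := by
      intro h
      have h2 : r ∣ (1 + r ^ v - a.val) + a.val := dvd_add h ha
      rw [Nat.sub_add_cancel (by have := ZMod.val_lt a; omega)] at h2
      exact (Fact.out : r.Prime).not_dvd_one ((Nat.dvd_add_left (dvd_pow_self r hv.ne')).1 h2)
    have := isUnit_natCast (v := v) h1
    rwa [Nat.cast_sub (by have := ZMod.val_lt a; omega), Nat.cast_add, Nat.cast_one, ZMod.natCast_self, add_zero,
      ZMod.natCast_zmod_val] at this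
  · left
    have := isUnit_natCast (v := v) ha
    rwa [ZMod.natCast_zmod_val] at this

theorem exists_eq_of_pow_eq {F K : Type*} [Field F] [Field K] [Fintype F] (f : F →+* K) (x : K)
    (hx : x ^ Fintype.card F = x) : ∃ y, f y = x := by
  classical
  have hq : 1 < Fintype.card F := Fintype.one_lt_card
  set P : Polynomial K := Polynomial.X ^ Fintype.card F - Polynomial.X with hP
  have hP0 : P ≠ 0 := FiniteField.X_pow_card_sub_X_ne_zero K hq
  have hsub : Finset.univ.image f ⊆ P.roots.toFinset := by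
    intro y hy
    obtain ⟨a, -, rfl⟩ := Finset.mem_image.1 hy
    rw [Multiset.mem_toFinset, Polynomial.mem_roots hP0]
    simp [hP, ← map_pow, FiniteField.pow_card]
  have hcard : P.roots.toFinset.card ≤ (Finset.univ.image f).card := by
    rw [Finset.card_image_of_injective _ f.injective, Finset.card_univ]
    refine (Multiset.toFinset_card_le _).trans ((Polynomial.card_roots' P).trans ?_)
    rw [hP, FiniteField.X_pow_card_sub_X_natDegree_eq K hq]
  have hmem : x ∈ P.roots.toFinset := by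
    rw [Multiset.mem_toFinset, Polynomial.mem_roots hP0]
    simp [hP, hx]
  rw [← Finset.eq_of_subset_of_card_le hsub hcard] at hmem
  obtain ⟨a, -, rfl⟩ := Finset.mem_image.1 hmem
  exact ⟨a, rfl⟩

theorem card_weyl_eq (hh : Rooted D C) {os : List OrbitCert}
    (hc : chkChain D C (List.range D.rank) os = true) :
    Nat.card ↥(weyl hh.toChecked (Finset.range D.rank)) = (os.map fun o => o.orbit.length).prod := by
  classical
  have h := hh.poinc_chain (1 : ℕ) os _ hc
  rw [List.toFinset_range, poinc] at h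
  simp only [one_pow, Finset.sum_const, smul_eq_mul, mul_one] at h
  rw [Nat.card_eq_fintype_card, Fintype.card_subtype]
  have e : (fun o : OrbitCert => orbitSum D C o (1 : ℕ)) = fun o => o.orbit.length :=
    funext fun o => by simp [orbitSum]
  rw [← e, ← h]

theorem factorization_group (hh : Rooted D C) {K : Type*} [Field K] [Fintype K] {ds sd : List ℕ}
    {os : List OrbitCert} (hs : SmithOK D C sd) (hc : chkChain D C (List.range D.rank) os = true)
    (hp : chkPoly D C os ds = true) {r : ℕ} [Fact r.Prime] (hsd : ∀ i < D.rank, ¬ r ∣ sd.getD i 0)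
    (hds : ∀ e ∈ ds, ¬ r ∣ e) (hrq : ¬ r ∣ Fintype.card K) :
    (Nat.card ↥(D.group K)).factorization r =
        (Fintype.card K ^ orderOf (Fintype.card K : ZMod r) - 1).factorization r *
          (ds.filter fun e => decide (orderOf (Fintype.card K : ZMod r) ∣ e)).length ∧
      Nat.Coprime r (Nat.card ↥(zpowMap Kˣ (cmMat D C)).ker) := by
  classical
  set q := Fintype.card K with hq
  have hq2 : 2 ≤ q := Fintype.one_lt_card
  have hd0 : 0 < orderOf (q : ZMod r) := by
    have : (q : ZMod r) ≠ 0 := by rwa [Ne, ZMod.natCast_eq_zero_iff]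
    exact orderOf_pos_iff.2 (isOfFinOrder_iff_pow_eq_one.2
      ⟨r - 1, by have := (Fact.out : r.Prime).two_le; omega, ZMod.pow_card_sub_one_eq_one this⟩)
  have hg : ∀ i : Fin D.rank, ¬ r ∣ (q - 1).gcd (sd.getD i.val 0) := fun i h =>
    hsd i.1 i.2 (h.trans (Nat.gcd_dvd_right _ _))
  have hker : ¬ r ∣ Nat.card ↥(zpowMap Kˣ (cmMat D C)).ker := by
    rw [card_ker_of_smith hs]
    intro h
    obtain ⟨i, -, hi⟩ := ((Fact.out : r.Prime).prime.dvd_finsetProd_iff _).1 h
    exact hg i hi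
  refine ⟨?_, (Fact.out : r.Prime).coprime_iff_not_dvd.2 hker⟩
  obtain ⟨hne, hfac⟩ := factorization_prod_degrees hq2 rfl hd0 rfl ds hds
  have e := hh.card_group_mul (F := K) hs hc hp
  rw [← card_ker_of_smith hs] at e
  have e' := congrArg (fun n : ℕ => n.factorization r) e
  rw [Nat.factorization_mul Nat.card_pos.ne' Nat.card_pos.ne', Finsupp.add_apply,
    Nat.factorization_eq_zero_of_not_dvd hker, zero_add,
    Nat.factorization_mul (pow_ne_zero _ (by omega)) hne, Finsupp.add_apply, Nat.factorization_pow,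
    Finsupp.smul_apply, Nat.factorization_eq_zero_of_not_dvd (n := q) hrq, smul_zero, zero_add, hfac] at e'
  exact e'

theorem glMap_tor {K : Type*} [Field K] {m : ℕ} (z : Multiplicative (ZMod m) →* Kˣ) (σ : K →+* K) (q : ℕ)
    (hσ : ∀ x, σ x = x ^ q) (f : Fin D.nroots → ZMod m) :
    glMap D σ (tor z (Multiplicative.ofAdd f)) = tor z (Multiplicative.ofAdd ((q : ZMod m) • f)) := by
  refine Units.ext ?_
  rw [coe_glMap, coe_tor, coe_tor, charDiag_map]
  congr 1
  funext s
  refine Units.ext ?_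
  simp only [Units.coe_map, RingHom.toMonoidHom_eq_coe, MonoidHom.coe_coe, hσ, zval]
  split_ifs with hs
  · rw [← Units.val_pow_eq_pow_val, ← map_pow, ← ofAdd_nsmul, Pi.smul_apply, smul_eq_mul, nsmul_eq_mul]
  · simp

set_option maxHeartbeats 1000000 in
theorem homocyclic (hh : Rooted D C) {F : Type*} [Field F] [Fintype F] {ds sd : List ℕ} {os : List OrbitCert}
    (hs : SmithOK D C sd) (hc : chkChain D C (List.range D.rank) os = true) (hp : chkPoly D C os ds = true)
    (hl : ds.length = D.rank) (hW : (os.map fun o => o.orbit.length).prod = ds.prod)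
    (r : ℕ) [Fact r.Prime] (hr2 : r ≠ 2) (hsd : ∀ i < D.rank, ¬ r ∣ sd.getD i 0) (hds : ¬ r ∣ ds.prod)
    (hrq : ¬ r ∣ Fintype.card F) (hrG : r ∣ Nat.card ↥(D.group F)) (P : Sylow r ↥(D.group F)) :
    Nonempty (↥(P : Subgroup ↥(D.group F)) ≃*
      (Fin (ds.filter (fun e => orderOf (Fintype.card F : ZMod r) ∣ e)).length →
        Multiplicative (ZMod (r ^ padicValNat r
          ((Polynomial.cyclotomic (orderOf (Fintype.card F : ZMod r)) ℤ).eval (Fintype.card F : ℤ)).natAbs)))) := by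
  classical
  have hpr : r.Prime := Fact.out
  have hdse : ∀ e ∈ ds, ¬ r ∣ e := fun e he h => hds (h.trans (List.dvd_prod he))
  set q := Fintype.card F with hq
  have hq2 : 2 ≤ q := Fintype.one_lt_card
  set d := orderOf (q : ZMod r) with hd
  have hd0 : 0 < d := by
    have : (q : ZMod r) ≠ 0 := by rwa [Ne, ZMod.natCast_eq_zero_iff]
    exact orderOf_pos_iff.2 (isOfFinOrder_iff_pow_eq_one.2
      ⟨r - 1, by have := hpr.two_le; omega, ZMod.pow_card_sub_one_eq_one this⟩)
  rw [padicValNat_cyclotomic hq2 hd0, ← hd]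
  set v := (q ^ d - 1).factorization r with hv
  obtain ⟨hGF, -⟩ := factorization_group hh (K := F) hs hc hp hsd hdse hrq
  rw [← hq, ← hd, ← hv] at hGF
  have hvpos : 0 < v := by
    have := hpr.factorization_pos_of_dvd Nat.card_pos.ne' hrG
    rw [hGF] at this
    exact Nat.pos_of_mul_pos_right this
  haveI : IsLocalRing (ZMod (r ^ v)) := isLocalRing_zmod hvpos
  haveI : NeZero (r ^ v) := ⟨pow_ne_zero _ hpr.ne_zero⟩
  -- the extension field
  obtain ⟨p, hpc⟩ := CharP.exists F
  haveI := hpc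
  haveI : Fact p.Prime := ⟨CharP.char_is_prime F p⟩
  haveI : NeZero d := ⟨hd0.ne'⟩
  let K := FiniteField.Extension F p d
  letI : Fintype K := Fintype.ofFinite K
  have hK : Fintype.card K = q ^ d := by
    rw [Fintype.card_eq_nat_card, FiniteField.natCard_extension, hq, Fintype.card_eq_nat_card]
  let f : F →+* K := algebraMap F K
  let σ : K →+* K := (FiniteField.frobeniusAlgHom F K : K →ₐ[F] K).toRingHom
  have hσ : ∀ x, σ x = x ^ q := fun x => rfl
  have hσf : ∀ a, σ (f a) = f a := fun a => (FiniteField.frobeniusAlgHom F K).commutes a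
  have hfix : ∀ x, σ x = x → ∃ y, f y = x := fun x hx => exists_eq_of_pow_eq f x ((hσ x).symm.trans hx)
  have hQ1 : ((q ^ d : ℕ) : ZMod r) = 1 := by rw [Nat.cast_pow, hd, pow_orderOf_eq_one]
  have hrQ : ¬ r ∣ Fintype.card K := by
    rw [hK]; exact fun h => hrq (hpr.dvd_of_dvd_pow h)
  obtain ⟨hGK, hkK⟩ := factorization_group hh (K := K) hs hc hp hsd hdse hrQ
  rw [hK, hQ1, orderOf_one, pow_one, ← hv, List.filter_eq_self.2 (fun e _ => by simp), hl] at hGK
  -- torsion of the torus
  have hmd : r ^ v ∣ q ^ d - 1 := Nat.ordProj_dvd _ _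
  obtain ⟨z, hz⟩ := exists_zmodHom (K := K) (m := r ^ v)
    (by rwa [Nat.card_eq_fintype_card, hK]) (pow_pos hpr.pos v)
  have hinj := iota_injective (D := D) (z := z) hh.toChecked hz (Nat.Coprime.pow_left v hkK)
  let τ : Multiplicative (Fin D.rank → ZMod (r ^ v)) →* ↥(D.group K) :=
    { toFun := fun x => ⟨tor z (Multiplicative.ofAdd (iota D (ZMod (r ^ v)) x.toAdd)),
        hh.diagonal_le_group (tor_mem hh.toChecked hh ⟨_, rfl⟩)⟩
      map_one' := Subtype.ext (by simp)
      map_mul' := fun a b => Subtype.ext (by simp [ofAdd_add]) }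
  have hτ : Function.Injective τ := fun a b e => by
    have e1 := Multiplicative.ofAdd.injective (tor_injective hz (congrArg Subtype.val e))
    exact Multiplicative.toAdd.injective (hinj e1)
  have hcard : Nat.card ↥τ.range = r ^ (Nat.card ↥(D.group K)).factorization r := by
    rw [← Nat.card_congr (MonoidHom.ofInjective hτ).toEquiv, hGK, pow_mul,
      Nat.card_congr Multiplicative.toAdd, Nat.card_fun, Nat.card_zmod, Nat.card_fin]
  let T : Sylow r ↥(D.group K) := Sylow.ofCard τ.range hcard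
  let φ : ↥(D.group F) →* ↥(D.group K) :=
    { toFun := fun x => ⟨glMap D f x, glMap_group_le f (Subgroup.mem_map_of_mem _ x.2)⟩
      map_one' := Subtype.ext (map_one (glMap D f))
      map_mul' := fun a b => Subtype.ext (map_mul (glMap D f) a.1 b.1) }
  obtain ⟨Q, hQ⟩ := (P.isPGroup'.map φ).exists_le_sylow
  obtain ⟨g, hg⟩ := MulAction.exists_smul_eq ↥(D.group K) Q T
  let Φ : ↥(D.group F) →* GL D.Idx K :=
    (MulAut.conj (g : GL D.Idx K)).toMonoidHom.comp ((glMap D f).comp (D.group F).subtype)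
  have hΦ : ∀ x, Φ x = (g : GL D.Idx K) * glMap D f x * (g : GL D.Idx K)⁻¹ := fun x => rfl
  have hΦinj : Function.Injective Φ := fun x y e => by
    rw [hΦ, hΦ] at e
    exact Subtype.ext (glMap_injective f (mul_left_cancel (mul_right_cancel e)))
  let A0 : Set (Fin D.nroots → ZMod (r ^ v)) :=
    {a | a ∈ CW D (ZMod (r ^ v)) ∧ ∃ x ∈ (P : Subgroup ↥(D.group F)), Φ x = tor z (Multiplicative.ofAdd a)}
  have hA0 : ∀ a ∈ A0, a ∈ CW D (ZMod (r ^ v)) := fun a ha => ha.1
  have hPA : ∀ x ∈ (P : Subgroup ↥(D.group F)), ∃ a ∈ A0, Φ x = tor z (Multiplicative.ofAdd a) := by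
    intro x hx
    have h1 : g * φ x * g⁻¹ ∈ (T : Subgroup ↥(D.group K)) := by
      rw [← hg]
      exact Subgroup.smul_mem_pointwise_smul (φ x) (MulAut.conj g) _ (hQ (Subgroup.mem_map_of_mem φ hx))
    obtain ⟨lam, hlam⟩ := h1
    have e : Φ x = tor z (Multiplicative.ofAdd (iota D (ZMod (r ^ v)) lam.toAdd)) :=
      (congrArg Subtype.val hlam).symm
    exact ⟨_, ⟨⟨_, rfl⟩, x, hx, e⟩, e⟩
  obtain ⟨a0, ha0, hne0⟩ : ∃ a ∈ A0, a ≠ 0 := by
    have hPne : (P : Subgroup ↥(D.group F)) ≠ ⊥ := P.ne_bot_of_dvd_card hrG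
    obtain ⟨x, hx, hx1⟩ := (Subgroup.bot_or_exists_ne_one (P : Subgroup ↥(D.group F))).resolve_left hPne
    obtain ⟨a, ha, e⟩ := hPA x hx
    refine ⟨a, ha, fun h0 => hx1 (hΦinj ?_)⟩
    rw [e, h0, ofAdd_zero, map_one, map_one]
  -- the conjugating element
  set hel : GL D.Idx K := glMap D σ (g : GL D.Idx K) * (g : GL D.Idx K)⁻¹ with hhel
  have hhelG : hel ∈ D.group K :=
    mul_mem (glMap_group_le σ (Subgroup.mem_map_of_mem _ g.2)) (inv_mem g.2)
  have hσΦ : ∀ x, glMap D σ (Φ x) = hel * Φ x * hel⁻¹ := by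
    intro x
    have : σ.comp f = f := RingHom.ext hσf
    rw [hΦ, map_mul, map_mul, map_inv, glMap_glMap, this, hhel]
    group
  have hhela : ∀ a ∈ A0, hel * tor z (Multiplicative.ofAdd a) =
      tor z (Multiplicative.ofAdd ((q : ZMod (r ^ v)) • a)) * hel := by
    rintro a ⟨-, x, -, e⟩
    rw [← mul_inv_eq_iff_eq_mul, ← e, ← hσΦ, e, glMap_tor z σ q hσ]
  obtain ⟨L, hL, b, hb, u, hu, hel_eq⟩ := hh.exists_canonical hhelG
  obtain ⟨u₁, hu₁, t₁, ht₁, rfl⟩ := hh.mem_borel_iff.1 hb
  have huU : u ∈ D.posUnipotent K := by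
    rw [hh.toChecked.posUnipotent_eq]; exact rootGen_mono (hh.toChecked.invSet_subset L) hu
  set n := nProd hh.toChecked K L with hn
  set w := wperm hh.toChecked L with hw
  have hwW : w ∈ weyl hh.toChecked (Finset.range D.rank) := hh.toChecked.mem_weyl_of_word hL
  have facts : ∀ a ∈ A0, act w a = (q : ZMod (r ^ v)) • a ∧ Commute (tor z (Multiplicative.ofAdd a)) u ∧
      Commute (tor z (Multiplicative.ofAdd ((q : ZMod (r ^ v)) • a))) u₁ := by
    intro a ha
    set t := tor z (Multiplicative.ofAdd a)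
    set t' := tor z (Multiplicative.ofAdd ((q : ZMod (r ^ v)) • a))
    set tw := tor z (Multiplicative.ofAdd (act w a))
    have ht : t ∈ D.diagonalSubgroup K := tor_mem hh.toChecked hh (hA0 a ha)
    have ht' : t' ∈ D.diagonalSubgroup K := tor_mem hh.toChecked hh (Submodule.smul_mem _ _ (hA0 a ha))
    have htw : tw ∈ D.diagonalSubgroup K := tor_mem hh.toChecked hh (act_mem hh.toChecked hwW (hA0 a ha))
    have hnt : n * t = tw * n := nProd_conj_tor hh.toChecked hL a
    have e := hhela a ha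
    rw [hel_eq] at e
    have hu' : t⁻¹ * u * t ∈ rootGen D K (invSet D C L) := by
      have := (Subgroup.mem_normalizer_iff.1 (inv_mem (hh.diagonal_le_normalizer
        (S := invSet D C L) hh.toChecked.invSet_lt ht)) u).1 hu
      simpa using this
    have e' : u₁ * t₁ * tw * n * (t⁻¹ * u * t) = t' * (u₁ * t₁) * n * u := by
      have e2 : u₁ * t₁ * tw * n * (t⁻¹ * u * t) = u₁ * t₁ * (tw * n) * t⁻¹ * u * t := by group
      rw [e2, ← hnt]
      calc u₁ * t₁ * (n * t) * t⁻¹ * u * t = (u₁ * t₁ * n * u) * t := by group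
        _ = t' * (u₁ * t₁ * n * u) := e
        _ = _ := by group
    have hb' := hh.mem_borel_iff.2 ⟨u₁, hu₁, t₁, ht₁, rfl⟩
    obtain ⟨eb, eu⟩ := hh.canonical_unique hL
      (mul_mem hb' (Subgroup.mem_sup_right htw)) (mul_mem (Subgroup.mem_sup_right ht') hb') hu' hu e'
    have hu1' : t' * u₁ * t'⁻¹ ∈ D.posUnipotent K :=
      (Subgroup.mem_normalizer_iff.1 (hh.diagonal_le_normalizer_posUnipotent ht') u₁).1 hu₁
    have e1 : (t' * u₁ * t'⁻¹)⁻¹ * u₁ = t' * t₁ * (t₁ * tw)⁻¹ := by
      calc (t' * u₁ * t'⁻¹)⁻¹ * u₁ = t' * u₁⁻¹ * t'⁻¹ * (u₁ * t₁ * tw) * (t₁ * tw)⁻¹ := by group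
        _ = _ := by rw [eb]; group
    have e2 : (t' * u₁ * t'⁻¹)⁻¹ * u₁ = 1 := by
      refine Subgroup.mem_bot.1 (hh.posUnipotent_inf_diagonal.le
        (Subgroup.mem_inf.2 ⟨mul_mem (inv_mem hu1') hu₁, ?_⟩))
      rw [e1]
      exact mul_mem (mul_mem ht' ht₁) (inv_mem (mul_mem ht₁ htw))
    have e3 : t' = tw := by
      rw [e2, eq_comm, mul_inv_eq_one, hh.diagonal_commute ht₁ htw] at e1
      exact mul_right_cancel e1
    refine ⟨(Multiplicative.ofAdd.injective (tor_injective hz e3)).symm, ?_, ?_⟩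
    · refine (commute_iff_eq _ _).2 ?_
      calc t * u = t * (t⁻¹ * u * t) := by rw [eu]
        _ = u * t := by group
    · exact (commute_iff_eq _ _).2 (mul_inv_eq_iff_eq_mul.1 (inv_mul_eq_one.1 e2))
  have hqu : IsUnit (q : ZMod (r ^ v)) := isUnit_natCast hrq
  have hfa : ∀ a ∈ A0, act w a = (q : ZMod (r ^ v)) • a := fun a ha => (facts a ha).1
  have hqd : (q : ZMod (r ^ v)) ^ d = 1 := by
    have h1 : ((q ^ d - 1 : ℕ) : ZMod (r ^ v)) = 0 := (ZMod.natCast_eq_zero_iff _ _).2 hmd
    rw [Nat.cast_sub (Nat.one_le_pow _ _ (by omega)), Nat.cast_pow, Nat.cast_one, sub_eq_zero] at h1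
    exact h1
  have hqo : (q : ZMod (r ^ v)) ^ orderOf w = 1 := by
    have hpow : ∀ i : ℕ, act (w ^ i) a0 = (q : ZMod (r ^ v)) ^ i • a0 := by
      intro i
      induction i with
      | zero => simp [act_one]
      | succ i ih => rw [pow_succ', act_mul, ih, map_smul, hfa a0 ha0, smul_smul, pow_succ]
    have h1 := hpow (orderOf w)
    rw [pow_orderOf_eq_one, act_one] at h1
    have hdvd : d ∣ orderOf w := by
      by_contra hnd
      refine hne0 ?_
      have hu2 := isUnit_natCast (v := v) (not_dvd_pow_sub_one (q := q) (by omega) hnd)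
      rw [Nat.cast_sub (Nat.one_le_pow _ _ (by omega)), Nat.cast_pow, Nat.cast_one] at hu2
      refine hu2.smul_eq_zero.1 ?_
      rw [sub_smul, one_smul, ← h1, sub_self]
    obtain ⟨k, hk⟩ := hdvd
    rw [hk, pow_mul, hqd, one_pow]
  have huW : ∀ k : ℕ, k ∣ Nat.card ↥(weyl hh.toChecked (Finset.range D.rank)) → IsUnit (k : ZMod (r ^ v)) :=
    fun k hk => isUnit_natCast fun h => hds (by
      rw [← hW, ← card_weyl_eq hh hc]; exact h.trans hk)
  set E := eigen hh.toChecked A0 w (q : ZMod (r ^ v)) with hE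
  obtain ⟨k, ⟨eE⟩⟩ := eigen_free hh.toChecked hinj hwW hqu hfa hqo huW
  have hA0E : ∀ a ∈ A0, a ∈ E := fun a ha => mem_eigen.2 ⟨hA0 a ha, hfa a ha, fun x _ hx => hx a ha⟩
  have h2 : IsUnit (2 : ZMod (r ^ v)) := by
    have := isUnit_natCast (r := r) (v := v) (n := 2) fun h =>
      hr2 ((Nat.prime_dvd_prime_iff_eq hpr Nat.prime_two).1 h)
    exact_mod_cast this
  have hhelf : ∀ a ∈ E, hel * tor z (Multiplicative.ofAdd a) =
      tor z (Multiplicative.ofAdd ((q : ZMod (r ^ v)) • a)) * hel := by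
    intro a ha
    have hv0 : ∀ s, (∀ a' ∈ A0, a' s = 0) → a s = 0 := fun s hs => eigen_apply_eq_zero hh h2 hA0 ha hs
    obtain ⟨haV, haw, -⟩ := mem_eigen.1 ha
    have c1 : Commute (tor z (Multiplicative.ofAdd a)) u :=
      commute_of_vanish hh hz hA0 huU (fun a' ha' => (facts a' ha').2.1) haV hv0
    have hq' : ∀ a' ∈ A0, Commute (tor z (Multiplicative.ofAdd a')) u₁ := by
      intro a' ha'
      obtain ⟨qi, hqi⟩ := hqu.exists_left_inv
      have e : tor (D := D) z (Multiplicative.ofAdd a') =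
          tor z (Multiplicative.ofAdd ((q : ZMod (r ^ v)) • a')) ^ qi.val := by
        rw [← tor_smul, smul_smul, ZMod.natCast_zmod_val, hqi, one_smul]
      rw [e]
      exact ((facts a' ha').2.2).pow_left _
    have c2 : Commute (tor z (Multiplicative.ofAdd ((q : ZMod (r ^ v)) • a))) u₁ := by
      refine commute_of_vanish hh hz hA0 hu₁ hq' (Submodule.smul_mem _ _ haV) fun s hs => ?_
      rw [Pi.smul_apply, hv0 s hs, smul_zero]
    set t := tor z (Multiplicative.ofAdd a)
    set t' := tor z (Multiplicative.ofAdd ((q : ZMod (r ^ v)) • a)) with ht'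
    have hnt : n * t = t' * n := by
      rw [ht', ← haw]; exact nProd_conj_tor hh.toChecked hL a
    have htd : t' ∈ D.diagonalSubgroup K := tor_mem hh.toChecked hh (Submodule.smul_mem _ _ haV)
    rw [hel_eq]
    calc u₁ * t₁ * n * u * t = u₁ * t₁ * n * (u * t) := by group
      _ = u₁ * t₁ * (n * t) * u := by rw [← c1.eq]; group
      _ = u₁ * (t₁ * t') * n * u := by rw [hnt]; group
      _ = u₁ * t' * t₁ * n * u := by rw [hh.diagonal_commute ht₁ htd]; group
      _ = _ := by rw [← c2.eq]; group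
  let S : Subgroup (GL D.Idx K) := (AddSubgroup.toSubgroup E.toAddSubgroup).map (tor z)
  have hSmem : ∀ a ∈ E, tor z (Multiplicative.ofAdd a) ∈ S := fun a ha => Subgroup.mem_map_of_mem _ ha
  have hSrange : ∀ y ∈ S, ∃ x, Φ x = y := by
    rintro _ ⟨a, ha, rfl⟩
    have haE : a.toAdd ∈ E := ha
    set y0 : GL D.Idx K := (g : GL D.Idx K)⁻¹ * tor z a * (g : GL D.Idx K) with hy0
    have hy0G : y0 ∈ D.group K := mul_mem (mul_mem (inv_mem g.2)
      (hh.diagonal_le_group (tor_mem hh.toChecked hh (mem_eigen.1 haE).1))) g.2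
    have hfx : glMap D σ y0 = y0 := by
      have e1 : glMap D σ (tor z a) = hel * tor z a * hel⁻¹ := by
        rw [eq_mul_inv_iff_mul_eq]
        have := hhelf a.toAdd haE
        rw [ofAdd_toAdd] at this
        rw [this]
        have e2 := glMap_tor (D := D) z σ q hσ a.toAdd
        rw [ofAdd_toAdd] at e2
        rw [e2]
      rw [hy0, map_mul, map_mul, map_inv, e1, hhel]
      group
    have hpow := pow_mem_map_of_fixed hh f σ hσf hfix hy0G hfx
    have hone : y0 ^ (r ^ v) = 1 := by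
      rw [hy0, show (g : GL D.Idx K)⁻¹ * tor z a * (g : GL D.Idx K) =
        (g : GL D.Idx K)⁻¹ * tor z a * ((g : GL D.Idx K)⁻¹)⁻¹ by rw [inv_inv], conj_pow, ← map_pow]
      have : a ^ (r ^ v) = 1 := by
        refine Multiplicative.toAdd.injective ?_
        rw [toAdd_pow, toAdd_one]
        funext s
        rw [Pi.smul_apply, nsmul_eq_mul, ZMod.natCast_self, zero_mul, Pi.zero_apply]
      rw [this, map_one]; group
    have hmem : y0 ∈ (D.group F).map (glMap D f) := by
      have h1 := Nat.gcd_eq_gcd_ab (r ^ v) (Nat.card ↥(zpowMap Kˣ (cmMat D C)).ker)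
      rw [Nat.Coprime.pow_left v hkK] at h1
      rw [← zpow_one y0, show (1 : ℤ) = _ from h1, zpow_add, zpow_mul, zpow_mul, zpow_natCast, zpow_natCast,
        hone, one_zpow, one_mul]
      exact zpow_mem hpow _
    obtain ⟨x, hx, e⟩ := hmem
    refine ⟨⟨x, hx⟩, ?_⟩
    rw [hΦ, e, hy0]
    group
  let B : Subgroup ↥(D.group F) := S.comap Φ
  have hmapB : B.map Φ = S := by
    refine le_antisymm (Subgroup.map_comap_le Φ S) fun y hy => ?_
    obtain ⟨x, rfl⟩ := hSrange y hy
    exact ⟨x, hy, rfl⟩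
  let eS : Multiplicative ↥E ≃* ↥S :=
    MulEquiv.trans
      { toFun := fun a => ⟨Multiplicative.ofAdd a.toAdd.1, a.toAdd.2⟩
        invFun := fun a => Multiplicative.ofAdd ⟨a.1.toAdd, a.2⟩
        left_inv := fun a => rfl
        right_inv := fun a => rfl
        map_mul' := fun a b => rfl }
      (Subgroup.equivMapOfInjective (AddSubgroup.toSubgroup E.toAddSubgroup) (tor z) (tor_injective hz))
  let eB : ↥B ≃* Multiplicative (Fin k → ZMod (r ^ v)) :=
    ((Subgroup.equivMapOfInjective B Φ hΦinj).trans (MulEquiv.subgroupCongr hmapB)).trans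
      (eS.symm.trans eE.toAddEquiv.toMultiplicative)
  have hBcard : Nat.card ↥B = r ^ (v * k) := by
    rw [Nat.card_congr eB.toEquiv, Nat.card_congr Multiplicative.toAdd, Nat.card_fun, Nat.card_zmod,
      Nat.card_fin, pow_mul]
  have hBp : IsPGroup r ↥B := IsPGroup.of_card hBcard
  have hPB : (P : Subgroup ↥(D.group F)) ≤ B := fun x hx => by
    obtain ⟨a, ha, e⟩ := hPA x hx
    show Φ x ∈ S
    rw [e]
    exact hSmem a (hA0E a ha)
  have hBP : B = (P : Subgroup ↥(D.group F)) := P.is_maximal' hBp hPB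
  have hk : k = (ds.filter (fun e => orderOf (q : ZMod r) ∣ e)).length := by
    have h1 := P.card_eq_multiplicity
    rw [← hBP, hBcard, hGF] at h1
    exact Nat.eq_of_mul_eq_mul_left hvpos (Nat.pow_right_injective hpr.two_le h1)
  refine ⟨(MulEquiv.subgroupCongr hBP).symm.trans (eB.trans ?_)⟩
  rw [← hd] at hk
  subst hk
  exact { toFun := fun a i => Multiplicative.ofAdd (a.toAdd i)
          invFun := fun a => Multiplicative.ofAdd fun i => (a i).toAdd
          left_inv := fun a => rfl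
          right_inv := fun a => rfl
          map_mul' := fun a b => rfl }

end Cfsg.Agent.Lib.H59.Homocyclic
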