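import Mathlib

/-!
Integer matrices with an eigenvalue of order `d` modulo `r` in dimension `φ d`, and their twisted fixed points
modulo `q ^ d - 1`.
-/

set_option autoImplicit false

namespace Cfsg.Agent.Lib.H59.Homocyclic

open Matrix Polynomial

variable {n : Type*} [Fintype n] [DecidableEq n]

theorem aeval_mulVec_of_eigen {R : Type*} [CommRing R] (W : Matrix n n R) {e : n → R} {c : R}
    (h : W *ᵥ e = c • e) (f : R[X]) : aeval W f *ᵥ e = f.eval c • e := by
  induction f using Polynomial.induction_on' with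
  | add f g hf hg => rw [map_add, Matrix.add_mulVec, hf, hg, eval_add, add_smul]
  | monomial k a =>
    rw [aeval_monomial, eval_monomial, Algebra.algebraMap_eq_smul_one, smul_one_mul, Matrix.smul_mulVec, mul_smul]
    congr 1
    induction k with
    | zero => simp
    | succ k ih => rw [pow_succ', ← Matrix.mulVec_mulVec, ih, Matrix.mulVec_smul, h, smul_smul, pow_succ]

theorem linearIndependent_pow_mulVec {W : Matrix n n ℚ} {p : ℚ[X]} (hp : Irreducible p) {v : n → ℚ}
    (hv : v ≠ 0) (h : aeval W p *ᵥ v = 0) :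
    LinearIndependent ℚ (fun j : Fin p.natDegree => W ^ j.val *ᵥ v) := by
  rw [Fintype.linearIndependent_iff]
  intro c hc
  set f : ℚ[X] := ∑ j : Fin p.natDegree, monomial j.val (c j) with hf
  have hfv : aeval W f *ᵥ v = 0 := by
    rw [hf, map_sum, Matrix.sum_mulVec, ← hc]
    refine Finset.sum_congr rfl fun j _ => ?_
    rw [aeval_monomial, Algebra.algebraMap_eq_smul_one, smul_one_mul, Matrix.smul_mulVec]
  have hcoef : ∀ j : Fin p.natDegree, f.coeff j.val = c j := by
    intro j
    rw [hf, finsetSum_coeff, Finset.sum_eq_single j]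
    · rw [coeff_monomial, if_pos rfl]
    · intro k _ hk; rw [coeff_monomial, if_neg (fun e => hk (Fin.ext e))]
    · intro hn; exact absurd (Finset.mem_univ j) hn
  suffices f = 0 by intro j; rw [← hcoef j, this, coeff_zero]
  by_contra hf0
  have hdeg : f.natDegree < p.natDegree := by
    have h0 : 0 < p.natDegree := hp.natDegree_pos
    refine lt_of_le_of_lt (natDegree_sum_le_of_forall_le _ _ (n := p.natDegree - 1) fun j _ => ?_) (by omega)
    exact (natDegree_monomial_le _).trans (by have := j.2; omega)
  have hcop : IsCoprime p f := (hp.coprime_iff_not_dvd).2 fun hd =>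
    absurd (natDegree_le_of_dvd hd hf0) (by omega)
  obtain ⟨a, b, hab⟩ := hcop
  refine hv ?_
  have := congrArg (fun g : ℚ[X] => aeval W g *ᵥ v) hab
  simp only [map_add, map_mul, map_one, Matrix.one_mulVec, Matrix.add_mulVec, ← Matrix.mulVec_mulVec, h, hfv,
    Matrix.mulVec_zero, add_zero] at this
  exact this.symm

theorem span_pow_mulVec {W : Matrix n n ℚ} {p : ℚ[X]} (hp : Irreducible p) (hn : p.natDegree = Fintype.card n)
    {v : n → ℚ} (hv : v ≠ 0) (h : aeval W p *ᵥ v = 0) :
    Submodule.span ℚ (Set.range fun j : Fin p.natDegree => W ^ j.val *ᵥ v) = ⊤ := by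
  refine Submodule.eq_top_of_finrank_eq ?_
  rw [finrank_span_eq_card (linearIndependent_pow_mulVec hp hv h), Fintype.card_fin, hn, Module.finrank_fintype_fun_eq_card]

theorem isRoot_cyclotomic_order {q r i : ℕ} [Fact r.Prime] (hi : ¬ r ∣ i)
    (h : (cyclotomic i (ZMod r)).eval (q : ZMod r) = 0) : orderOf (q : ZMod r) = i := by
  haveI : NeZero (i : ZMod r) := ⟨by rwa [Ne, ZMod.natCast_eq_zero_iff]⟩
  exact ((isRoot_cyclotomic_iff).1 h).eq_orderOf.symm

/-- A finite order integer matrix of dimension `φ d` with an eigenvalue of order `d` modulo `r`. -/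
theorem charpoly_eq_cyclotomic {q r d o : ℕ} [Fact r.Prime] (hd : orderOf (q : ZMod r) = d) (hd0 : 0 < d)
    (hn : d.totient = Fintype.card n) (W : Matrix n n ℤ) (ho : W ^ o = 1) (ho0 : 0 < o) (hro : ¬ r ∣ o)
    {e : n → ZMod r} (he : e ≠ 0) (heig : W.map (Int.castRingHom (ZMod r)) *ᵥ e = (q : ZMod r) • e) :
    W.charpoly = cyclotomic d ℤ ∧ W ^ d = 1 ∧
      aeval (W.map (Int.castRingHom ℚ)) (cyclotomic d ℚ) = 0 := by
  classical
  set Wr := W.map (Int.castRingHom (ZMod r)) with hWr
  set Wq := W.map (Int.castRingHom ℚ) with hWq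
  have hpowe : ∀ k : ℕ, Wr ^ k *ᵥ e = (q : ZMod r) ^ k • e := fun k => by
    have := aeval_mulVec_of_eigen Wr heig (X ^ k)
    simpa using this
  have hdo : d ∣ o := by
    rw [← hd]
    refine orderOf_dvd_of_pow_eq_one ?_
    have h1 := hpowe o
    rw [hWr, ← Matrix.map_pow, ho, Matrix.map_one _ (map_zero _) (map_one _), Matrix.one_mulVec] at h1
    obtain ⟨i, hi⟩ := Function.ne_iff.1 he
    have h2 := congrFun h1 i
    rw [Pi.smul_apply, smul_eq_mul] at h2
    exact mul_eq_right₀ hi |>.1 h2.symm
  set g : ℤ[X] := ∏ i ∈ o.divisors.erase d, cyclotomic i ℤ with hg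
  have hgprod : cyclotomic d ℤ * g = X ^ o - 1 := by
    rw [hg, Finset.mul_prod_erase _ (fun i => cyclotomic i ℤ) (Nat.mem_divisors.2 ⟨hdo, by omega⟩), prod_cyclotomic_eq_X_pow_sub_one ho0]
  have hgr : (g.map (Int.castRingHom (ZMod r))).eval (q : ZMod r) ≠ 0 := by
    rw [hg, Polynomial.map_prod, eval_prod, Finset.prod_ne_zero_iff]
    intro i hi h0
    rw [map_cyclotomic_int] at h0
    obtain ⟨hid, hio⟩ := Finset.mem_erase.1 hi
    exact hid ((isRoot_cyclotomic_order (fun hri => hro (hri.trans (Nat.dvd_of_mem_divisors hio))) h0).symm.trans hd)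
  have hmap : ∀ (R : Type) [CommRing R] (f : ℤ[X]),
      (aeval W f).map (Int.castRingHom R) = aeval (W.map (Int.castRingHom R)) (f.map (Int.castRingHom R)) := by
    intro R _ f
    induction f using Polynomial.induction_on' with
    | add f g hf hg => rw [map_add, Matrix.map_add _ (map_add _), hf, hg, Polynomial.map_add, map_add]
    | monomial k a =>
      rw [aeval_monomial, Polynomial.map_monomial, aeval_monomial, Algebra.algebraMap_eq_smul_one,
        Algebra.algebraMap_eq_smul_one, smul_one_mul, smul_one_mul, ← Matrix.map_pow]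
      ext i j
      simp [← zsmul_eq_mul]
  have hgW : aeval W g ≠ 0 := by
    intro h0
    have h1 := aeval_mulVec_of_eigen Wr heig (g.map (Int.castRingHom (ZMod r)))
    rw [← hmap, h0, Matrix.map_zero _ (map_zero _), Matrix.zero_mulVec] at h1
    exact he ((smul_eq_zero.1 h1.symm).resolve_left hgr)
  have hgWq : aeval Wq (g.map (Int.castRingHom ℚ)) ≠ 0 := by
    rw [hWq, ← hmap]
    intro h0
    refine hgW ?_
    ext i j
    have := congrFun (congrFun h0 i) j
    simpa using this
  have hirr : Irreducible (cyclotomic d ℚ) := cyclotomic.irreducible_rat hd0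
  have hdeg : (cyclotomic d ℚ).natDegree = Fintype.card n := by rw [natDegree_cyclotomic, hn]
  have hmul : aeval Wq (cyclotomic d ℚ) * aeval Wq (g.map (Int.castRingHom ℚ)) = 0 := by
    rw [← map_mul, ← map_cyclotomic_int d ℚ, ← Polynomial.map_mul, hgprod, hWq, ← hmap]
    simp [ho]
  obtain ⟨i, j, hij⟩ : ∃ i j, aeval Wq (g.map (Int.castRingHom ℚ)) i j ≠ 0 := by
    by_contra! h
    exact hgWq (Matrix.ext h)
  set v : n → ℚ := fun k => aeval Wq (g.map (Int.castRingHom ℚ)) k j with hv
  have hv0 : v ≠ 0 := fun h => hij (congrFun h i)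
  have hpv : aeval Wq (cyclotomic d ℚ) *ᵥ v = 0 := by
    funext k
    have := congrFun (congrFun hmul k) j
    rwa [Matrix.mul_apply] at this
  have hzero : aeval Wq (cyclotomic d ℚ) = 0 := by
    have hspan := span_pow_mulVec hirr hdeg hv0 hpv
    have hker : (⊤ : Submodule ℚ (n → ℚ)) ≤ LinearMap.ker (Matrix.mulVecLin (aeval Wq (cyclotomic d ℚ))) := by
      rw [← hspan, Submodule.span_le]
      rintro _ ⟨k, rfl⟩
      have hc : aeval Wq (cyclotomic d ℚ) * Wq ^ k.val = Wq ^ k.val * aeval Wq (cyclotomic d ℚ) := by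
        rw [← aeval_X_pow (R := ℚ) Wq, ← map_mul, ← map_mul, mul_comm]
      simp only [SetLike.mem_coe, LinearMap.mem_ker, Matrix.mulVecLin_apply]
      rw [Matrix.mulVec_mulVec, hc, ← Matrix.mulVec_mulVec, hpv, Matrix.mulVec_zero]
    refine Matrix.ext_of_mulVec_single fun k => ?_
    rw [Matrix.zero_mulVec]
    exact LinearMap.mem_ker.1 (hker (Submodule.mem_top : Pi.single k 1 ∈ ⊤))
  have hmin : minpoly ℚ Wq = cyclotomic d ℚ := by
    haveI : Nonempty n := ⟨i⟩
    exact (minpoly.eq_of_irreducible_of_monic hirr hzero (cyclotomic.monic d ℚ)).symm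
  have hchar : Wq.charpoly = cyclotomic d ℚ := by
    refine (Polynomial.eq_of_monic_of_dvd_of_natDegree_le (cyclotomic.monic d ℚ) (Matrix.charpoly_monic Wq)
      (hmin ▸ Matrix.minpoly_dvd_charpoly Wq) ?_)
    rw [Matrix.charpoly_natDegree_eq_dim, hdeg]
  refine ⟨Polynomial.map_injective (Int.castRingHom ℚ) Int.cast_injective ?_, ?_, hzero⟩
  · rw [← Matrix.charpoly_map, ← hWq, hchar, map_cyclotomic_int]
  · obtain ⟨c, hc⟩ := cyclotomic.dvd_X_pow_sub_one d ℚ
    have h1 : aeval Wq (X ^ d - 1 : ℚ[X]) = 0 := by rw [hc, map_mul, hzero, zero_mul]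
    rw [map_sub, map_pow, aeval_X, map_one, sub_eq_zero, hWq, ← Matrix.map_pow] at h1
    ext a b
    have := congrFun (congrFun h1 a) b
    by_cases e : a = b
    · subst e; simpa [Matrix.one_apply] using this
    · simpa [Matrix.one_apply, e] using this

/-- The twisted fixed points modulo `q ^ d - 1`. -/
def twistFix (W : Matrix n n ℤ) (q M : ℕ) : AddSubgroup (n → ZMod M) where
  carrier := {lam | W.map (Int.castRingHom (ZMod M)) *ᵥ lam = (q : ZMod M) • lam}
  zero_mem' := by simp
  add_mem' := fun {a b} ha hb => by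
    simp only [Set.mem_setOf_eq] at ha hb ⊢
    rw [Matrix.mulVec_add, ha, hb, smul_add]
  neg_mem' := fun {a} ha => by
    simp only [Set.mem_setOf_eq] at ha ⊢
    rw [Matrix.mulVec_neg, ha, smul_neg]

theorem mem_twistFix {W : Matrix n n ℤ} {q M : ℕ} {lam : n → ZMod M} :
    lam ∈ twistFix W q M ↔ W.map (Int.castRingHom (ZMod M)) *ᵥ lam = (q : ZMod M) • lam := Iff.rfl

theorem card_twistFix (W : Matrix n n ℤ) (q d : ℕ) (hq : 2 ≤ q) (hd0 : 0 < d) (hWd : W ^ d = 1)
    (hdet : W.charpoly.eval (q : ℤ) ≠ 0) :
    Nat.card ↥(twistFix W q (q ^ d - 1)) = (W.charpoly.eval (q : ℤ)).natAbs := by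
  classical
  set M := q ^ d - 1 with hM
  have hM1 : 1 ≤ M := by
    have : q ≤ q ^ d := Nat.le_self_pow (by omega) q
    omega
  haveI : NeZero M := ⟨by omega⟩
  set A : Matrix n n ℤ := W - Matrix.scalar n (q : ℤ) with hA
  set B : Matrix n n ℤ := ∑ i ∈ Finset.range d, W ^ i * Matrix.scalar n (q : ℤ) ^ (d - 1 - i) with hB
  have hcomm : Commute W (Matrix.scalar n (q : ℤ)) := (Matrix.scalar_commute _ (fun r => Commute.all _ r) W).symm
  have hAB : A * B = Matrix.scalar n (-(M : ℤ)) := by
    rw [hA, hB, hcomm.mul_geom_sum₂, hWd, ← map_pow, ← map_one (Matrix.scalar n), ← map_sub]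
    congr 1
    rw [hM, Nat.cast_sub (Nat.one_le_pow _ _ (by omega))]
    push_cast
    ring
  have hdetA : A.det.natAbs = (W.charpoly.eval (q : ℤ)).natAbs := by
    have e : (Matrix.scalar n (q : ℤ) - W) = -A := by rw [hA, neg_sub]
    rw [Matrix.eval_charpoly, e, Matrix.det_neg, Int.natAbs_mul]
    simp [Int.natAbs_pow]
  have hAinj : Function.Injective A.mulVec :=
    by
      intro x y hxy
      have h1 : A *ᵥ (x - y) = 0 := by rw [Matrix.mulVec_sub, hxy, sub_self]
      have hne : A.det ≠ 0 := fun h => hdet (Int.natAbs_eq_zero.1 (by rw [← hdetA, h]; rfl))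
      exact sub_eq_zero.1 (Matrix.eq_zero_of_mulVec_eq_zero hne h1)
  let cast : (n → ℤ) →+ (n → ZMod M) :=
    { toFun := fun x i => ((x i : ℤ) : ZMod M), map_zero' := by funext i; simp,
      map_add' := fun a b => by funext i; simp }
  have hcast : ∀ (P : Matrix n n ℤ) (x : n → ℤ), cast (P *ᵥ x) = P.map (Int.castRingHom (ZMod M)) *ᵥ cast x := by
    intro P x
    funext i
    simp [cast, Matrix.mulVec, dotProduct]
  have hAmap : ∀ lam : n → ZMod M, A.map (Int.castRingHom (ZMod M)) *ᵥ lam =
      W.map (Int.castRingHom (ZMod M)) *ᵥ lam - (q : ZMod M) • lam := by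
    intro lam
    rw [hA, Matrix.map_sub _ (map_sub _), Matrix.sub_mulVec]
    congr 1
    funext i
    rw [Matrix.scalar_apply]
    simp [Matrix.mulVec, dotProduct, Matrix.diagonal_apply, apply_ite, ite_mul]
  have hmem : ∀ x : n → ℤ, cast (B *ᵥ x) ∈ twistFix W q M := by
    intro x
    rw [mem_twistFix, ← sub_eq_zero, ← hAmap, ← hcast, Matrix.mulVec_mulVec, hAB]
    funext i
    rw [Matrix.scalar_apply]
    simp [cast, Matrix.mulVec, dotProduct, Matrix.diagonal_apply, ite_mul]
  let φ : (n → ℤ) →+ ↥(twistFix W q M) :=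
    { toFun := fun x => ⟨cast (B *ᵥ x), hmem x⟩
      map_zero' := Subtype.ext (by simp)
      map_add' := fun a b => Subtype.ext (by
        show cast (B *ᵥ (a + b)) = cast (B *ᵥ a) + cast (B *ᵥ b)
        rw [Matrix.mulVec_add, map_add]) }
  have hscal : ∀ (c : ℤ) (x : n → ℤ), Matrix.scalar n c *ᵥ x = c • x := by
    intro c x
    funext i
    rw [Matrix.scalar_apply]
    simp [Matrix.mulVec, dotProduct, Matrix.diagonal_apply, ite_mul]
  have hBA : B * A = A * B := by
    have h1 : Commute A B := by
      rw [hA, hB]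
      refine Commute.sum_right _ _ _ fun i _ => ?_
      exact (((Commute.refl W).pow_right i).mul_right (hcomm.pow_right _)).sub_left
        ((hcomm.symm.pow_right i).mul_right ((Commute.refl _).pow_right _))
    exact h1.eq.symm
  have hker : φ.ker = (LinearMap.range (Matrix.mulVecLin A)).toAddSubgroup := by
    ext x
    rw [AddMonoidHom.mem_ker]
    constructor
    · intro hx
      have hx' : ∀ i, (M : ℤ) ∣ (B *ᵥ x) i := fun i =>
        (ZMod.intCast_zmod_eq_zero_iff_dvd _ _).1 (congrFun (congrArg Subtype.val hx) i)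
      choose y hy using hx'
      have hBx : B *ᵥ x = (M : ℤ) • y := funext fun i => by rw [Pi.smul_apply, smul_eq_mul]; exact hy i
      refine ⟨-y, ?_⟩
      have h1 : A *ᵥ (B *ᵥ x) = -((M : ℤ) • x) := by rw [Matrix.mulVec_mulVec, hAB, hscal, neg_smul]
      rw [hBx, Matrix.mulVec_smul] at h1
      rw [Matrix.mulVecLin_apply, Matrix.mulVec_neg]
      funext i
      have h2 := congrFun h1 i
      simp only [Pi.smul_apply, Pi.neg_apply, smul_eq_mul] at h2 ⊢
      have hM0 : (M : ℤ) ≠ 0 := by exact_mod_cast (NeZero.ne M)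
      have := mul_left_cancel₀ hM0 (h2.trans (mul_neg _ _).symm)
      rw [this, neg_neg]
    · rintro ⟨y, rfl⟩
      refine Subtype.ext ?_
      show cast (B *ᵥ (A *ᵥ y)) = 0
      rw [Matrix.mulVec_mulVec, hBA, hAB, hscal]
      funext i
      simp [cast]
  have hsurj : Function.Surjective φ := by
    rintro ⟨lam, hlam⟩
    have h0 : A.map (Int.castRingHom (ZMod M)) *ᵥ lam = 0 := by rw [hAmap, mem_twistFix.1 hlam, sub_self]
    set x : n → ℤ := fun i => ((lam i).val : ℤ) with hx
    have hcx : cast x = lam := by funext i; simp [cast, hx]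
    have hdiv : ∀ i, (M : ℤ) ∣ (A *ᵥ x) i := by
      intro i
      have := congrFun (hcast A x) i
      rw [hcx, h0] at this
      exact (ZMod.intCast_zmod_eq_zero_iff_dvd _ _).1 this
    choose y hy using hdiv
    refine ⟨-y, Subtype.ext ?_⟩
    show cast (B *ᵥ (-y)) = lam
    rw [← hcx]
    congr 1
    refine hAinj ?_
    rw [Matrix.mulVec_mulVec, hAB, hscal, show A *ᵥ x = (M : ℤ) • y from funext fun i => by
      rw [Pi.smul_apply, smul_eq_mul]; exact hy i]
    simp
  rw [← Nat.card_congr (QuotientAddGroup.quotientKerEquivOfSurjective φ hsurj).toEquiv, hker, ← hdetA]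
  have e := Submodule.natAbs_det_equiv (LinearMap.range (Matrix.mulVecLin A))
    (LinearEquiv.ofInjective (Matrix.mulVecLin A) hAinj)
  rw [← LinearMap.det_toLin', show Matrix.toLin' A = Matrix.mulVecLin A from Matrix.toLin'_apply' A]
  refine e.symm.trans ?_
  congr 1

/-- Cyclicity of the twisted fixed points. -/
theorem isAddCyclic_twistFix (W : Matrix n n ℤ) (q d : ℕ) (hq : 2 ≤ q) (hd0 : 0 < d)
    (hchar : W.charpoly = cyclotomic d ℤ) (hWd : W ^ d = 1)
    (hsq : ∀ l : ℕ, l.Prime → l ∣ d → ¬ l ^ 2 ∣ ((cyclotomic d ℤ).eval (q : ℤ)).natAbs) :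
    IsCyclic (Multiplicative ↥(twistFix W q (q ^ d - 1))) := by
  classical
  set M := q ^ d - 1 with hM
  haveI : NeZero M := ⟨by have : q ≤ q ^ d := Nat.le_self_pow (by omega) q; omega⟩
  have hN : W.charpoly.eval (q : ℤ) ≠ 0 := by
    rw [hchar]
    intro h0
    obtain ⟨c, hc⟩ := cyclotomic.dvd_X_pow_sub_one d ℤ
    have := congrArg (eval (q : ℤ)) hc
    rw [eval_mul, h0, zero_mul, eval_sub, eval_pow, eval_X, eval_one, sub_eq_zero] at this
    have h2 : (1 : ℤ) < (q : ℤ) ^ d := one_lt_pow₀ (by exact_mod_cast hq) (by omega)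
    omega
  haveI : IsZGroup (Multiplicative ↥(twistFix W q M)) := by
    refine ⟨fun l hl P => ?_⟩
    haveI : Fact l.Prime := ⟨hl⟩
    haveI : Fintype ↥(P : Subgroup (Multiplicative ↥(twistFix W q M))) := Fintype.ofFinite _
    have htors : Nat.card {a : ↥(twistFix W q M) // l • a = 0} ≤ l := by
      by_cases hld : l ∣ d
      · by_contra hgt
        let S : AddSubgroup ↥(twistFix W q M) := (nsmulAddMonoidHom l).ker
        have hS : Nat.card ↥S = Nat.card {a : ↥(twistFix W q M) // l • a = 0} :=
          Nat.card_congr (Equiv.subtypeEquivRight fun a => AddMonoidHom.mem_ker)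
        have hpS : IsPGroup l (Multiplicative ↥S) := fun a => ⟨1, by
          refine Multiplicative.toAdd.injective ?_
          rw [toAdd_pow, toAdd_one, pow_one]
          exact Subtype.ext (AddMonoidHom.mem_ker.1 a.toAdd.2)⟩
        obtain ⟨k, hk⟩ := IsPGroup.iff_card.1 hpS
        rw [Nat.card_congr Multiplicative.toAdd] at hk
        have h2 : l ^ 2 ∣ Nat.card ↥S := by
          rw [hk]
          refine pow_dvd_pow l ?_
          by_contra hlt
          have : l ^ k ≤ l ^ 1 := Nat.pow_le_pow_right hl.pos (by omega)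
          rw [← hk, hS, pow_one] at this
          exact hgt this
        refine hsq l hl hld ?_
        rw [← hchar, ← card_twistFix W q d hq hd0 hWd hN]
        exact h2.trans (AddSubgroup.card_addSubgroup_dvd_card S)
      · haveI : NeZero (d : ZMod l) := ⟨by rwa [Ne, ZMod.natCast_eq_zero_iff]⟩
        set Wl := W.map (Int.castRingHom (ZMod l)) with hWl
        have hmult : (Matrix.toLin' Wl).charpoly.rootMultiplicity (q : ZMod l) ≤ 1 := by
          rw [Matrix.charpoly_toLin', hWl, Matrix.charpoly_map, hchar, map_cyclotomic_int]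
          exact rootMultiplicity_le_one_of_separable (separable_cyclotomic d (ZMod l)) _
        have hfin := (LinearMap.finrank_eigenspace_le (Matrix.toLin' Wl) (q : ZMod l)).trans hmult
        set V := Module.End.eigenspace (Matrix.toLin' Wl) (q : ZMod l) with hV
        have hcV : Nat.card ↥V ≤ l := by
          rw [Module.natCard_eq_pow_finrank (K := ZMod l), Nat.card_zmod]
          calc l ^ Module.finrank (ZMod l) ↥V ≤ l ^ 1 := Nat.pow_le_pow_right hl.pos hfin
            _ = l := pow_one l
        by_cases hlM : l ∣ M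
        · obtain ⟨c, hc⟩ := hlM
          have hc0 : c ≠ 0 := fun e => NeZero.ne M (by rw [hc, e, mul_zero])
          -- an element killed by `l` is `c` times a vector modulo `l`
          have hdiv : ∀ a : {a : ↥(twistFix W q M) // l • a = 0}, ∀ i, c ∣ (a.1.1 i).val := by
            intro a i
            have h1 : ((l * (a.1.1 i).val : ℕ) : ZMod M) = 0 := by
              rw [Nat.cast_mul, ZMod.natCast_zmod_val, ← nsmul_eq_mul]
              exact congrFun (congrArg Subtype.val a.2) i
            rw [ZMod.natCast_eq_zero_iff] at h1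
            exact Nat.dvd_of_mul_dvd_mul_left hl.pos ((dvd_of_eq hc.symm).trans h1)
          choose u hu using hdiv
          refine le_trans (Nat.card_le_card_of_injective
            (fun a => (⟨fun i => ((u a i : ℕ) : ZMod l), ?_⟩ : ↥V)) ?_) hcV
          · rw [Module.End.mem_eigenspace_iff, Matrix.toLin'_apply]
            have h1 := mem_twistFix.1 a.1.2
            funext i
            have h2 := congrFun h1 i
            simp only [Matrix.mulVec, dotProduct, Matrix.map_apply, Pi.smul_apply, smul_eq_mul, hWl,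
              Int.coe_castRingHom] at h2 ⊢
            have e : ∀ j, a.1.1 j = ((c * u a j : ℕ) : ZMod M) := fun j => by
              rw [← hu a j, ZMod.natCast_zmod_val]
            have h3 : (((∑ j, W i j * ((c * u a j : ℕ) : ℤ)) - (q : ℤ) * ((c * u a i : ℕ) : ℤ) : ℤ) : ZMod M) = 0 := by
              push_cast
              rw [sub_eq_zero]
              simpa [e] using h2
            rw [ZMod.intCast_zmod_eq_zero_iff_dvd] at h3
            replace h3 := (dvd_of_eq (show ((l * c : ℕ) : ℤ) = (M : ℤ) by rw [← hc])).trans h3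
            have h4 : ((l : ℤ) * (c : ℤ)) ∣ (c : ℤ) * ((∑ j, W i j * (u a j : ℤ)) - (q : ℤ) * (u a i : ℤ)) := by
              have hkey : (∑ j, W i j * ((c * u a j : ℕ) : ℤ)) - (q : ℤ) * ((c * u a i : ℕ) : ℤ) =
                  (c : ℤ) * ((∑ j, W i j * (u a j : ℤ)) - (q : ℤ) * (u a i : ℤ)) := by
                rw [mul_sub, Finset.mul_sum]
                push_cast
                congr 1
                · exact Finset.sum_congr rfl fun j _ => by ring
                · ring
              rw [hkey, Nat.cast_mul] at h3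
              exact h3
            rw [mul_comm (l : ℤ)] at h4
            have h5 := Int.dvd_of_mul_dvd_mul_left (by exact_mod_cast hc0) h4
            rw [← ZMod.intCast_zmod_eq_zero_iff_dvd] at h5
            push_cast at h5
            exact sub_eq_zero.1 h5
          · intro a b hab
            refine Subtype.ext (Subtype.ext (funext fun i => ZMod.val_injective M ?_))
            have e := congrFun (congrArg Subtype.val hab) i
            simp only at e
            have ha := ZMod.val_lt (a.1.1 i)
            have hb := ZMod.val_lt (b.1.1 i)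
            have key : ∀ x : {a : ↥(twistFix W q M) // l • a = 0}, u x i < l := fun x => by
              by_contra hge
              have hlt := ZMod.val_lt (x.1.1 i)
              rw [hu x i] at hlt
              have : c * l ≤ c * u x i := Nat.mul_le_mul_left c (by omega)
              rw [mul_comm c l, ← hc] at this
              omega
            rw [ZMod.natCast_eq_natCast_iff', Nat.mod_eq_of_lt (key a), Nat.mod_eq_of_lt (key b)] at e
            rw [hu a i, hu b i, e]
        · haveI : Subsingleton {a : ↥(twistFix W q M) // l • a = 0} := ⟨fun a b => by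
            have key : ∀ x : {a : ↥(twistFix W q M) // l • a = 0}, x.1 = 0 := fun x => by
              refine Subtype.ext (funext fun i => ?_)
              have h1 : (l : ZMod M) * x.1.1 i = 0 := by
                rw [← nsmul_eq_mul]; exact congrFun (congrArg Subtype.val x.2) i
              exact ((ZMod.isUnit_iff_coprime _ _).2 (hl.coprime_iff_not_dvd.2 hlM)).mul_right_eq_zero.1 h1
            exact Subtype.ext ((key a).trans (key b).symm)⟩
          exact le_trans (Finite.card_le_one_iff_subsingleton.2 inferInstance) hl.one_le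
    refine isCyclic_of_card_pow_eq_one_le fun k hk => ?_
    -- reduce to a power of `l`
    obtain ⟨e, he⟩ := IsPGroup.iff_card.1 P.isPGroup'
    obtain ⟨j, -, hj⟩ := (Nat.dvd_prime_pow hl).1 (Nat.gcd_dvd_right k (l ^ e))
    have hsub : ∀ a : ↥(P : Subgroup (Multiplicative ↥(twistFix W q M))), a ^ k = 1 → a ^ (l ^ j) = 1 := by
      intro a ha
      rw [← hj, ← orderOf_dvd_iff_pow_eq_one]
      exact Nat.dvd_gcd (orderOf_dvd_of_pow_eq_one ha) (he ▸ orderOf_dvd_natCard a)
    have hbound : ∀ j : ℕ, Nat.card {a : ↥(twistFix W q M) // l ^ j • a = 0} ≤ l ^ j := by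
      intro j
      induction j with
      | zero =>
        rw [pow_zero]
        exact Finite.card_le_one_iff_subsingleton.2 ⟨fun a b => Subtype.ext
          ((one_nsmul a.1).symm.trans (a.2.trans (b.2.symm.trans (one_nsmul b.1))))⟩
      | succ j ih =>
        let S1 : AddSubgroup ↥(twistFix W q M) := (nsmulAddMonoidHom (l ^ (j + 1))).ker
        let f : ↥S1 →+ ↥(twistFix W q M) := (nsmulAddMonoidHom l).comp S1.subtype
        have h1 : Nat.card ↥f.ker ≤ l := by
          refine le_trans (Nat.card_le_card_of_injective (fun a => (⟨a.1.1, AddMonoidHom.mem_ker.1 a.2⟩ :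
            {a : ↥(twistFix W q M) // l • a = 0})) ?_) htors
          intro a b hab
          exact Subtype.ext (Subtype.ext (congrArg (fun x : {a : ↥(twistFix W q M) // l • a = 0} => x.1) hab))
        have h2 : Nat.card ↥f.range ≤ l ^ j := by
          refine le_trans (Nat.card_le_card_of_injective (fun a => (⟨a.1, ?_⟩ :
            {a : ↥(twistFix W q M) // l ^ j • a = 0})) ?_) ih
          · obtain ⟨x, hx⟩ := a.2
            rw [← hx]
            show l ^ j • (l • x.1) = 0
            rw [← mul_nsmul', ← pow_succ]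
            exact AddMonoidHom.mem_ker.1 x.2
          · intro a b hab
            exact Subtype.ext (congrArg (fun x : {a : ↥(twistFix W q M) // l ^ j • a = 0} => x.1) hab)
        calc Nat.card {a : ↥(twistFix W q M) // l ^ (j + 1) • a = 0}
            = Nat.card ↥S1 := Nat.card_congr (Equiv.subtypeEquivRight fun a => Iff.rfl)
          _ = Nat.card ↥f.range * Nat.card ↥f.ker := by
              rw [← AddSubgroup.index_ker f, mul_comm, AddSubgroup.card_mul_index]
          _ ≤ l ^ j * l := Nat.mul_le_mul h2 h1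
          _ = l ^ (j + 1) := (pow_succ l j).symm
    rw [← Nat.card_eq_finsetCard]
    refine le_trans (Nat.card_le_card_of_injective (fun a => (⟨Multiplicative.toAdd a.1.1, ?_⟩ :
      {a : ↥(twistFix W q M) // l ^ j • a = 0})) ?_) ((hbound j).trans ?_)
    · have h' := congrArg Subtype.val (hsub a.1 (Finset.mem_filter.1 a.2).2)
      have h'' := congrArg Multiplicative.toAdd h'
      simpa using h'' 
    · intro a b hab
      have h' : Multiplicative.toAdd a.1.1 = Multiplicative.toAdd b.1.1 :=
        congrArg (fun x : {a : ↥(twistFix W q M) // l ^ j • a = 0} => x.1) hab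
      exact Subtype.ext (Subtype.ext (Multiplicative.toAdd.injective h'))
    · rw [← hj]; exact Nat.le_of_dvd hk (Nat.gcd_dvd_left _ _)
  exact inferInstance

end Cfsg.Agent.Lib.H59.Homocyclic
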