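import Cfsg.Agent.Lib.H59.Homocyclic.Coweight
import Cfsg.Agent.Lib.Chev.Orders

/-!
The Weyl group as integer matrices on the coweights.
-/

set_option autoImplicit false

namespace Cfsg.Agent.Lib.H59.Homocyclic

open Cfsg.Lie Cfsg.Agent.Lib.Chev
open scoped Matrix

variable {D : ChevalleyDatum} {C : Cert}

/-- The matrix of a fundamental reflection on coweights. -/
def reflMat (D : ChevalleyDatum) (C : Cert) (i : ℕ) : Matrix (Fin D.rank) (Fin D.rank) ℤ :=
  Matrix.of fun a b => (if a = b then 1 else 0) - if a.val = i then cm C b.val i else 0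

theorem iota_reflMat (h : Checked D C) {i : ℕ} (hi : i < D.rank) {R : Type*} [CommRing R]
    (lam : Fin D.rank → R) :
    iota D R ((reflMat D C i).map (Int.castRingHom R) *ᵥ lam) = act (sigma h i) (iota D R lam) := by
  have e : (reflMat D C i).map (Int.castRingHom R) *ᵥ lam =
      lam - iota D R lam (srootF h hi) • Pi.single (⟨i, hi⟩ : Fin D.rank) (1 : R) := by
    funext a
    have ha : ∀ b : Fin D.rank, (D.cartan b.val (D.simple i) : R) = (cm C b.val i : R) := fun b => by
      rw [h.cm_eq hi b.2]
    simp only [Matrix.mulVec, dotProduct, Matrix.map_apply, reflMat, Matrix.of_apply, Pi.sub_apply, Pi.smul_apply,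
      smul_eq_mul, Int.coe_castRingHom, Int.cast_sub, sub_mul, Finset.sum_sub_distrib]
    congr 1
    · simp
    · by_cases e : a = ⟨i, hi⟩
      · subst e
        rw [Pi.single_eq_same, mul_one, iota_apply]
        refine Finset.sum_congr rfl fun b _ => ?_
        rw [if_pos rfl, show ((srootF h hi : Fin D.nroots) : ℕ) = D.simple i from rfl, ha]
      · have e' : a.val ≠ i := fun h' => e (Fin.ext h')
        rw [Pi.single_eq_of_ne e, mul_zero]
        exact Finset.sum_eq_zero fun b _ => by simp [e']
  rw [e, map_sub, map_smul, act_sigma h hi ⟨lam, rfl⟩]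

/-- Every element of the Weyl group has an integer matrix on the coweights. -/
theorem exists_weylMat (h : Checked D C) {w : Equiv.Perm (Fin D.nroots)} (hw : w ∈ weyl h (Finset.range D.rank)) :
    ∃ W : Matrix (Fin D.rank) (Fin D.rank) ℤ, ∀ (R : Type) [CommRing R] (lam : Fin D.rank → R),
      iota D R (W.map (Int.castRingHom R) *ᵥ lam) = act w (iota D R lam) := by
  obtain ⟨L, hL, rfl⟩ := h.exists_word_of_weyl hw
  clear hw
  induction L with
  | nil => exact ⟨1, fun R _ lam => by simp [wperm_nil, act_one]⟩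
  | cons i L ih =>
    obtain ⟨W, hW⟩ := ih hL.cons.2
    refine ⟨reflMat D C i * W, fun R _ lam => ?_⟩
    rw [Matrix.map_mul, ← Matrix.mulVec_mulVec, iota_reflMat h hL.cons.1, hW, wperm_cons, act_mul]

theorem exists_cmMat_inverse {d : List ℕ} (hs : SmithOK D C d) (hd : ∀ i < D.rank, d.getD i 0 = 1) :
    ∃ B : Matrix (Fin D.rank) (Fin D.rank) ℤ, cmMat D C * B = 1 ∧ B * cmMat D C = 1 := by
  obtain ⟨U, U', V, V', hc⟩ := hs
  simp only [chkSmith, allN_iff, Bool.and_eq_true, decide_eq_true_iff, zsum_eq, natBeq_eq, Bool.cond_decide] at hc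
  let M : List (List ℤ) → Matrix (Fin D.rank) (Fin D.rank) ℤ := fun X => Matrix.of fun i j => lm X i.val j.val
  have e : M U * cmMat D C * M V = 1 := by
    ext i j
    have := (hc i.val i.2 j.val j.2).2
    simp only [Finset.sum_range] at this
    simp only [M, cmMat, Matrix.mul_apply, Matrix.of_apply, Matrix.one_apply]
    rw [this, hd i.val i.2]
    simp [Fin.ext_iff]
  have e1 : cmMat D C * M V * M U = 1 := by
    rw [Matrix.mul_assoc] at e
    exact mul_eq_one_comm.1 e
  refine ⟨M V * M U, by rw [← Matrix.mul_assoc]; exact e1, ?_⟩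
  exact mul_eq_one_comm.1 (by rw [← Matrix.mul_assoc]; exact e1)

theorem iota_injective_of_inverse (h : Checked D C) {B : Matrix (Fin D.rank) (Fin D.rank) ℤ}
    (hB : cmMat D C * B = 1) (R : Type*) [CommRing R] : Function.Injective (iota D R) := by
  rw [← LinearMap.ker_eq_bot, LinearMap.ker_eq_bot']
  intro lam hl
  have e : lam ᵥ* (cmMat D C).map (Int.castRingHom R) = 0 := by
    funext j
    have := congrFun hl ⟨D.simple j.val, h.simple_lt j.2⟩
    rw [iota_apply, Pi.zero_apply] at this
    rw [Pi.zero_apply, ← this]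
    simp only [Matrix.vecMul, dotProduct, Matrix.map_apply, cmMat, Matrix.of_apply]
    exact Finset.sum_congr rfl fun i _ => by rw [h.cm_eq j.2 i.2, mul_comm]; rfl
  calc lam = lam ᵥ* ((cmMat D C).map (Int.castRingHom R) * B.map (Int.castRingHom R)) := by
        rw [← Matrix.map_mul, hB]; simp
    _ = 0 := by rw [← Matrix.vecMul_vecMul, e, Matrix.zero_vecMul]

/-- An element of the Weyl group fixing all integral coweights is trivial. -/
theorem eq_one_of_act (h : Checked D C) {B : Matrix (Fin D.rank) (Fin D.rank) ℤ} (hB : B * cmMat D C = 1)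
    {x : Equiv.Perm (Fin D.nroots)} (hx : ∀ lam : Fin D.rank → ℤ, act x (iota D ℤ lam) = iota D ℤ lam) : x = 1 := by
  refine inv_eq_one.1 (Equiv.ext fun s => ?_)
  rw [Equiv.Perm.one_apply]
  have hcart : ∀ i : Fin D.rank, D.cartan i.val (x⁻¹ s).val = D.cartan i.val s.val := by
    intro i
    have e := congrFun (hx (Pi.single i 1)) s
    rw [act_apply, iota_apply, iota_apply, Finset.sum_eq_single i (fun j _ hj => by simp [hj])
      (fun hn => absurd (Finset.mem_univ i) hn),
      Finset.sum_eq_single i (fun j _ hj => by simp [hj]) (fun hn => absurd (Finset.mem_univ i) hn)] at e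
    simpa using e
  have hcoef : ∀ r : Fin D.nroots, (fun j : Fin D.rank => coef D C j.val r.val) =
      B *ᵥ (fun i : Fin D.rank => D.cartan i.val r.val) := by
    intro r
    have e : (fun i : Fin D.rank => D.cartan i.val r.val) = cmMat D C *ᵥ fun j : Fin D.rank => coef D C j.val r.val := by
      funext i
      rw [h.cartan_eq i.2 r.2, zsum_eq, Finset.sum_range]
      simp only [Matrix.mulVec, dotProduct, cmMat, Matrix.of_apply]
      exact Finset.sum_congr rfl fun k _ => mul_comm _ _
    rw [e, Matrix.mulVec_mulVec, hB, Matrix.one_mulVec]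
  have e : (fun j : Fin D.rank => coef D C j.val (x⁻¹ s).val) = fun j : Fin D.rank => coef D C j.val s.val := by
    rw [hcoef, hcoef]
    congr 1
    exact funext hcart
  refine Fin.ext (h.code_inj (x⁻¹ s).2 s.2 (Nat.cast_injective (R := ℤ) ?_))
  rw [sum_dig _ _ (h.code_lt (x⁻¹ s).2), sum_dig _ _ (h.code_lt s.2)]
  refine Finset.sum_congr rfl fun k hk => ?_
  rw [Finset.mem_range] at hk
  have e1 := congrFun e ⟨D.rank - 1 - k, by omega⟩
  simp only [coef_eq_dig, show D.rank - 1 - (D.rank - 1 - k) = k by omega] at e1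
  rw [e1]

end Cfsg.Agent.Lib.H59.Homocyclic
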