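import Cfsg.Agent.Lib.Chev.Bruhat
import Cfsg.Agent.Lib.Chev.RootOrbit
import Mathlib.RingTheory.LocalRing.Module

/-!
The module of coweights modulo `m` as functions on the roots, the action of the Weyl group on it, and the
projection onto the eigenspace of a Weyl group element which fixes what a given subset forces to be fixed.
-/

set_option autoImplicit false

namespace Cfsg.Agent.Lib.H59.Homocyclic

open Cfsg.Lie Cfsg.Agent.Lib.Chev

variable {D : ChevalleyDatum} {C : Cert} {R : Type*} [CommRing R]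

/-- The action of a permutation of the roots on functions. -/
def act (w : Equiv.Perm (Fin D.nroots)) : (Fin D.nroots → R) →ₗ[R] (Fin D.nroots → R) :=
  LinearMap.funLeft R R (w⁻¹ : Equiv.Perm (Fin D.nroots))

theorem act_apply (w : Equiv.Perm (Fin D.nroots)) (f : Fin D.nroots → R) (s : Fin D.nroots) :
    act w f s = f (w⁻¹ s) := rfl

theorem act_one (f : Fin D.nroots → R) : act (1 : Equiv.Perm (Fin D.nroots)) f = f := rfl

theorem act_mul (x y : Equiv.Perm (Fin D.nroots)) (f : Fin D.nroots → R) :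
    act (x * y) f = act x (act y f) := by
  funext s
  simp only [act_apply, mul_inv_rev, Equiv.Perm.mul_apply]

/-- A coweight as a function on the roots. -/
def iota (D : ChevalleyDatum) (R : Type*) [CommRing R] : (Fin D.rank → R) →ₗ[R] (Fin D.nroots → R) :=
  Matrix.mulVecLin (Matrix.of fun (s : Fin D.nroots) (i : Fin D.rank) => (D.cartan i.val s.val : R))

theorem iota_apply (lam : Fin D.rank → R) (s : Fin D.nroots) :
    iota D R lam s = ∑ i : Fin D.rank, (D.cartan i.val s.val : R) * lam i := rfl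

/-- The coweights. -/
def CW (D : ChevalleyDatum) (R : Type*) [CommRing R] : Submodule R (Fin D.nroots → R) :=
  LinearMap.range (iota D R)

/-- A fundamental root among the roots. -/
def srootF (h : Checked D C) {i : ℕ} (hi : i < D.rank) : Fin D.nroots := ⟨D.simple i, h.simple_lt hi⟩

section Checked

variable (h : Checked D C)
include h

theorem iota_sigma {i : ℕ} (hi : i < D.rank) (lam : Fin D.rank → R) (s : Fin D.nroots) :
    iota D R lam (sigma h i s) = iota D R lam s - (D.cartan i s.val : R) * iota D R lam (srootF h hi) := by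
  simp only [iota_apply, Finset.mul_sum, ← Finset.sum_sub_distrib]
  refine Finset.sum_congr rfl fun j _ => ?_
  rw [h.sigma_val hi, h.cartan_refl hi j.2 s.2]
  rw [show ((srootF h hi : Fin D.nroots) : ℕ) = D.simple i from rfl, ← h.cm_eq hi j.2]
  push_cast
  ring

theorem act_sigma {i : ℕ} (hi : i < D.rank) {f : Fin D.nroots → R} (hf : f ∈ CW D R) :
    act (sigma h i) f = f - f (srootF h hi) • iota D R (Pi.single ⟨i, hi⟩ 1) := by
  obtain ⟨lam, rfl⟩ := hf
  funext s
  rw [act_apply, h.sigma_inv, iota_sigma h hi, Pi.sub_apply, Pi.smul_apply, smul_eq_mul]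
  congr 1
  rw [iota_apply (Pi.single ⟨i, hi⟩ 1) s, Finset.sum_eq_single ⟨i, hi⟩]
  · simp [mul_comm]
  · intro j _ hj; simp [hj]
  · intro hn; exact absurd (Finset.mem_univ _) hn

theorem act_sigma_mem {i : ℕ} {f : Fin D.nroots → R} (hf : f ∈ CW D R) : act (sigma h i) f ∈ CW D R := by
  by_cases hi : i < D.rank
  · rw [act_sigma h hi hf]
    exact sub_mem hf (Submodule.smul_mem _ _ ⟨_, rfl⟩)
  · rw [show sigma h i = 1 by simp [sigma, hi], act_one]
    exact hf

theorem act_mem {w : Equiv.Perm (Fin D.nroots)} (hw : w ∈ weyl h (Finset.range D.rank))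
    {f : Fin D.nroots → R} (hf : f ∈ CW D R) : act w f ∈ CW D R := by
  obtain ⟨L, -, rfl⟩ := h.exists_word_of_weyl hw
  clear hw
  induction L generalizing f with
  | nil => rw [wperm_nil, act_one]; exact hf
  | cons i L ih =>
    rw [wperm_cons, act_mul]
    exact act_sigma_mem h (ih hf)

theorem fixed_of_apply_eq_zero {i : ℕ} (hi : i < D.rank) {f : Fin D.nroots → R} (hf : f ∈ CW D R)
    (h0 : f (srootF h hi) = 0) : act (sigma h i) f = f := by
  rw [act_sigma h hi hf, h0, zero_smul, sub_zero]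

theorem apply_eq_zero_of_fixed (h2 : IsUnit (2 : R)) {i : ℕ} (hi : i < D.rank) {f : Fin D.nroots → R}
    (hf : f ∈ CW D R) (he : act (sigma h i) f = f) : f (srootF h hi) = 0 := by
  obtain ⟨lam, rfl⟩ := hf
  have e := congrFun he (srootF h hi)
  rw [act_apply, h.sigma_inv, iota_sigma h hi] at e
  rw [show ((srootF h hi : Fin D.nroots) : ℕ) = D.simple i from rfl, h.cartan_self hi, Int.cast_ofNat,
    sub_eq_self] at e
  exact h2.mul_right_eq_zero.1 e

end Checked

theorem exists_conj_simple (hh : Rooted D C) : ∀ s : Fin D.nroots, ∃ x ∈ weyl hh.toChecked (Finset.range D.rank),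
    ∃ (i : ℕ) (hi : i < D.rank), x (srootF hh.toChecked hi) = s := by
  have key := hh.root_induction (P := fun r => ∀ hr : r < D.nroots, ∃ x ∈ weyl hh.toChecked (Finset.range D.rank),
      ∃ (i : ℕ) (hi : i < D.rank), x (srootF hh.toChecked hi) = ⟨r, hr⟩)
    (fun i hi hr => ⟨1, one_mem _, i, hi, rfl⟩)
    (fun j hj r hr ih hr' => by
      obtain ⟨x, hx, i, hi, e⟩ := ih hr
      refine ⟨sigma hh.toChecked j * x, mul_mem (hh.toChecked.sigma_mem_weyl (Finset.mem_range.2 hj)) hx, i, hi, ?_⟩
      rw [Equiv.Perm.mul_apply, e]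
      exact Fin.ext (hh.toChecked.sigma_val hj ⟨r, hr⟩))
  exact fun s => key s.1 s.2 s.2

/-- The coweights on which `w` is the scalar `c` and which are fixed by what fixes `A0`. -/
def eigen (h : Checked D C) (A0 : Set (Fin D.nroots → R)) (w : Equiv.Perm (Fin D.nroots)) (c : R) :
    Submodule R (Fin D.nroots → R) where
  carrier := {f | f ∈ CW D R ∧ act w f = c • f ∧
    ∀ x ∈ weyl h (Finset.range D.rank), (∀ a ∈ A0, act x a = a) → act x f = f}
  zero_mem' := ⟨zero_mem _, by simp, fun x _ _ => map_zero _⟩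
  add_mem' := fun {f g} hf hg => ⟨add_mem hf.1 hg.1, by rw [map_add, hf.2.1, hg.2.1, smul_add],
    fun x hx ha => by rw [map_add, hf.2.2 x hx ha, hg.2.2 x hx ha]⟩
  smul_mem' := fun r f hf => ⟨Submodule.smul_mem _ r hf.1, by rw [map_smul, hf.2.1, smul_comm],
    fun x hx ha => by rw [map_smul, hf.2.2 x hx ha]⟩

theorem mem_eigen {h : Checked D C} {A0 : Set (Fin D.nroots → R)} {w : Equiv.Perm (Fin D.nroots)} {c : R}
    {f : Fin D.nroots → R} : f ∈ eigen h A0 w c ↔ f ∈ CW D R ∧ act w f = c • f ∧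
      ∀ x ∈ weyl h (Finset.range D.rank), (∀ a ∈ A0, act x a = a) → act x f = f := Iff.rfl

/-- On the eigenspace the roots vanishing on `A0` vanish. -/
theorem eigen_apply_eq_zero (hh : Rooted D C) (h2 : IsUnit (2 : R)) {A0 : Set (Fin D.nroots → R)}
    (hA : ∀ a ∈ A0, a ∈ CW D R) {w : Equiv.Perm (Fin D.nroots)} {c : R} {f : Fin D.nroots → R}
    (hf : f ∈ eigen hh.toChecked A0 w c) {s : Fin D.nroots} (hs : ∀ a ∈ A0, a s = 0) : f s = 0 := by
  obtain ⟨x, hx, i, hi, rfl⟩ := exists_conj_simple hh s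
  have h := hh.toChecked
  have pull : ∀ g : Fin D.nroots → R, g (x (srootF h hi)) = act x⁻¹ g (srootF h hi) := fun g => by
    rw [act_apply, inv_inv]
  have fix0 : ∀ a ∈ A0, act (x * sigma h i * x⁻¹) a = a := by
    intro a ha
    rw [act_mul, act_mul, fixed_of_apply_eq_zero h hi (act_mem h (inv_mem hx) (hA a ha))
      (by rw [← pull a]; exact hs a ha), ← act_mul, mul_inv_cancel, act_one]
  have hfx := hf.2.2 _ (mul_mem (mul_mem hx (h.sigma_mem_weyl (Finset.mem_range.2 hi))) (inv_mem hx)) fix0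
  rw [pull f]
  refine apply_eq_zero_of_fixed h h2 hi (act_mem h (inv_mem hx) hf.1) ?_
  have e := congrArg (act x⁻¹) hfx
  rwa [← act_mul, ← mul_assoc, ← mul_assoc, inv_mul_cancel, one_mul, act_mul] at e

theorem exists_projection (h : Checked D C) {A0 : Set (Fin D.nroots → R)} {w : Equiv.Perm (Fin D.nroots)}
    (hw : w ∈ weyl h (Finset.range D.rank)) {c : R} (hc : IsUnit c) (ha : ∀ a ∈ A0, act w a = c • a)
    (hco : c ^ orderOf w = 1)
    (hu : ∀ n : ℕ, n ∣ Nat.card ↥(weyl h (Finset.range D.rank)) → IsUnit (n : R)) :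
    ∃ π : (Fin D.nroots → R) →ₗ[R] (Fin D.nroots → R),
      (∀ f ∈ CW D R, π f ∈ eigen h A0 w c) ∧ ∀ f ∈ eigen h A0 w c, π f = f := by
  classical
  let C0 : Subgroup (Equiv.Perm (Fin D.nroots)) :=
    { carrier := {x | x ∈ weyl h (Finset.range D.rank) ∧ ∀ a ∈ A0, act x a = a}
      one_mem' := ⟨one_mem _, fun a _ => act_one a⟩
      mul_mem' := fun {x y} hx hy => ⟨mul_mem hx.1 hy.1, fun a haA => by
        rw [act_mul, hy.2 a haA, hx.2 a haA]⟩
      inv_mem' := fun {x} hx => ⟨inv_mem hx.1, fun a haA => by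
        conv_lhs => rw [← hx.2 a haA]
        rw [← act_mul, inv_mul_cancel, act_one]⟩ }
  have hC0 : ∀ x, x ∈ C0 ↔ x ∈ weyl h (Finset.range D.rank) ∧ ∀ a ∈ A0, act x a = a := fun x => Iff.rfl
  have hconj : ∀ x ∈ C0, w⁻¹ * x * w ∈ C0 := by
    intro x hx
    refine ⟨mul_mem (mul_mem (inv_mem hw) hx.1) hw, fun a haA => ?_⟩
    rw [act_mul, act_mul, ha a haA, map_smul, hx.2 a haA, ← ha a haA, ← act_mul, inv_mul_cancel, act_one]
  haveI : Fintype ↥C0 := Fintype.ofFinite _
  let cj : ↥C0 → ↥C0 := fun x => ⟨w⁻¹ * x.1 * w, hconj x.1 x.2⟩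
  have hcj : Function.Bijective cj := Finite.injective_iff_bijective.1 fun x y e => by
    refine Subtype.ext ?_
    have := congrArg Subtype.val e
    simpa [cj] using this
  set o := orderOf w with ho
  obtain ⟨ci, hci⟩ := hc.exists_left_inv
  let N : (Fin D.nroots → R) →ₗ[R] (Fin D.nroots → R) := ∑ x : ↥C0, act x.1
  let M : (Fin D.nroots → R) →ₗ[R] (Fin D.nroots → R) := ∑ i ∈ Finset.range o, ci ^ i • act (w ^ i)
  have hNapp : ∀ f, N f = ∑ x : ↥C0, act x.1 f := fun f => by simp [N]
  have hMapp : ∀ f, M f = ∑ i ∈ Finset.range o, ci ^ i • act (w ^ i) f := fun f => by simp [M]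
  have hNfix : ∀ f, ∀ x ∈ C0, act x (N f) = N f := by
    intro f x hx
    rw [hNapp, map_sum]
    refine Fintype.sum_bijective (fun y : ↥C0 => (⟨x, hx⟩ : ↥C0) * y) (Group.mulLeft_bijective _) _ _ fun y => ?_
    rw [← act_mul]; rfl
  have hMfix : ∀ f, (∀ x ∈ C0, act x f = f) → ∀ x ∈ C0, act x (M f) = M f := by
    intro f hf
    have hpow : ∀ i : ℕ, ∀ x ∈ C0, act x (act (w ^ i) f) = act (w ^ i) f := by
      intro i
      induction i with
      | zero => intro x hx; rw [pow_zero, act_one]; exact hf x hx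
      | succ i ih =>
        intro x hx
        have e : x * w ^ (i + 1) = w * (w⁻¹ * x * w * w ^ i) := by rw [pow_succ']; group
        rw [← act_mul, e, act_mul, act_mul, ih _ (hconj x hx), ← act_mul, pow_succ']
    intro x hx
    rw [hMapp, map_sum]
    exact Finset.sum_congr rfl fun i _ => by rw [map_smul, hpow i x hx]
  have hMw : ∀ f, act w (M f) = c • M f := by
    intro f
    let g : ℕ → (Fin D.nroots → R) := fun i => ci ^ i • act (w ^ i) f
    have e1 : act w (M f) = ∑ i ∈ Finset.range o, c • g (i + 1) := by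
      rw [hMapp, map_sum]
      refine Finset.sum_congr rfl fun i _ => ?_
      simp only [g, map_smul, ← act_mul, ← pow_succ', smul_smul]
      congr 1
      rw [pow_succ, mul_left_comm, mul_comm c, hci, mul_one]
    have e2 : g o = g 0 := by
      simp only [g, pow_zero, one_smul]
      rw [show ci ^ o = 1 by
        have := congrArg (· ^ o) hci
        simpa [mul_pow, hco] using this, one_smul, ho, pow_orderOf_eq_one]
    have e3 : ∑ i ∈ Finset.range o, g (i + 1) = ∑ i ∈ Finset.range o, g i := by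
      have h1 := Finset.sum_range_succ g o
      have h2 := Finset.sum_range_succ' g o
      rw [h1, e2] at h2
      exact (add_right_cancel h2).symm
    rw [e1, ← Finset.smul_sum, e3, hMapp]
  obtain ⟨u, hu'⟩ := ((hu o (by
    have := orderOf_dvd_natCard (⟨w, hw⟩ : ↥(weyl h (Finset.range D.rank)))
    rwa [← Subgroup.orderOf_coe] at this)).mul
    (hu (Nat.card ↥C0) (Subgroup.card_dvd_of_le (fun x hx => hx.1)))).exists_left_inv
  refine ⟨u • (M ∘ₗ N), fun f hf => ?_, fun f hf => ?_⟩
  · have hNmem : N f ∈ CW D R := by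
      rw [hNapp]; exact sum_mem fun x _ => act_mem h x.2.1 hf
    have hMmem : M (N f) ∈ CW D R := by
      rw [hMapp]; exact sum_mem fun i _ => Submodule.smul_mem _ _ (act_mem h (pow_mem hw i) hNmem)
    refine Submodule.smul_mem _ u ⟨hMmem, hMw _, fun x hx hxa => ?_⟩
    exact hMfix _ (hNfix f) x ⟨hx, hxa⟩
  · obtain ⟨-, hfw, hfC⟩ := hf
    have e1 : N f = (Nat.card ↥C0 : R) • f := by
      rw [hNapp, Finset.sum_congr rfl fun x _ => hfC x.1 x.2.1 x.2.2, Finset.sum_const, Finset.card_univ,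
        Nat.card_eq_fintype_card, ← Nat.cast_smul_eq_nsmul R]
    have e2 : ∀ i : ℕ, act (w ^ i) f = c ^ i • f := by
      intro i
      induction i with
      | zero => simp [act_one]
      | succ i ih => rw [pow_succ', act_mul, ih, map_smul, hfw, smul_smul, pow_succ]
    have e3 : M f = (o : R) • f := by
      rw [hMapp]
      have : ∀ i ∈ Finset.range o, ci ^ i • act (w ^ i) f = f := fun i _ => by
        rw [e2, smul_smul, ← mul_pow, hci, one_pow, one_smul]
      rw [Finset.sum_congr rfl this, Finset.sum_const, Finset.card_range, ← Nat.cast_smul_eq_nsmul R]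
    rw [LinearMap.smul_apply, LinearMap.comp_apply, e1, map_smul, e3, smul_smul, smul_smul]
    rw [show u * (Nat.card ↥C0 : R) * (o : R) = 1 by rw [mul_assoc, mul_comm (Nat.card ↥C0 : R)]; exact hu', one_smul]

/-- The eigenspace is free over a local ring, as a retract of the coweights. -/
theorem eigen_free [IsLocalRing R] (h : Checked D C) (hinj : Function.Injective (iota D R))
    {A0 : Set (Fin D.nroots → R)} {w : Equiv.Perm (Fin D.nroots)}
    (hw : w ∈ weyl h (Finset.range D.rank)) {c : R} (hc : IsUnit c) (ha : ∀ a ∈ A0, act w a = c • a)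
    (hco : c ^ orderOf w = 1)
    (hu : ∀ n : ℕ, n ∣ Nat.card ↥(weyl h (Finset.range D.rank)) → IsUnit (n : R)) :
    ∃ k : ℕ, Nonempty (↥(eigen h A0 w c) ≃ₗ[R] (Fin k → R)) := by
  obtain ⟨π, hπ, hfix⟩ := exists_projection h hw hc ha hco hu
  let p : (Fin D.rank → R) →ₗ[R] ↥(eigen h A0 w c) :=
    LinearMap.codRestrict _ (π ∘ₗ iota D R) fun x => hπ _ ⟨x, rfl⟩
  let e := LinearEquiv.ofInjective (iota D R) hinj
  let i : ↥(eigen h A0 w c) →ₗ[R] (Fin D.rank → R) :=
    e.symm.toLinearMap ∘ₗ Submodule.inclusion (fun f (hf : f ∈ eigen h A0 w c) => (mem_eigen.1 hf).1)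
  have hpi : p ∘ₗ i = LinearMap.id := by
    refine LinearMap.ext fun f => Subtype.ext ?_
    show π (iota D R (e.symm (Submodule.inclusion _ f))) = f.1
    have := congrArg Subtype.val (e.apply_symm_apply
      (Submodule.inclusion (fun f (hf : f ∈ eigen h A0 w c) => (mem_eigen.1 hf).1) f))
    rw [LinearEquiv.ofInjective_apply] at this
    exact (congrArg π this).trans (hfix _ f.2)
  haveI : Module.Projective R ↥(eigen h A0 w c) := Module.Projective.of_split i p hpi
  haveI : Module.Finite R ↥(eigen h A0 w c) :=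
    Module.Finite.of_surjective p fun f => ⟨i f, LinearMap.congr_fun hpi f⟩
  haveI : Module.Free R ↥(eigen h A0 w c) := Module.free_of_flat_of_isLocalRing
  exact ⟨_, ⟨(Module.finBasis R ↥(eigen h A0 w c)).equivFun⟩⟩

end Cfsg.Agent.Lib.H59.Homocyclic
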