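import Mathlib

/-!
The part of `q ^ e - 1` at a prime `r` which does not divide `e`.
-/

set_option autoImplicit false

namespace Cfsg.Agent.Lib.H59.Homocyclic

open Finset Polynomial

theorem not_dvd_pow_sub_one {q r e : ℕ} [Fact r.Prime] (hq : 1 ≤ q) (hd : ¬ orderOf (q : ZMod r) ∣ e) :
    ¬ r ∣ q ^ e - 1 := by
  intro hdvd
  refine hd (orderOf_dvd_of_pow_eq_one ?_)
  have h1 : ((q ^ e - 1 : ℕ) : ZMod r) = 0 := (ZMod.natCast_eq_zero_iff _ _).2 hdvd
  rw [Nat.cast_sub (Nat.one_le_pow _ _ hq), Nat.cast_pow, Nat.cast_one, sub_eq_zero] at h1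
  exact h1

theorem factorization_pow_sub_one {Q r k : ℕ} [Fact r.Prime] (hQ : 2 ≤ Q) (h1 : (Q : ZMod r) = 1)
    (hk : ¬ r ∣ k) : (Q ^ k - 1).factorization r = (Q - 1).factorization r := by
  have hk0 : k ≠ 0 := fun e => hk (e ▸ dvd_zero r)
  have e : (∑ i ∈ range k, Q ^ i) * (Q - 1) = Q ^ k - 1 := geom_sum_mul_of_one_le (by omega) k
  have hS : ¬ r ∣ ∑ i ∈ range k, Q ^ i := by
    rw [← ZMod.natCast_eq_zero_iff]
    push_cast
    rw [h1]
    simpa [ZMod.natCast_eq_zero_iff] using hk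
  have hS0 : ∑ i ∈ range k, Q ^ i ≠ 0 := fun e => hS (e ▸ dvd_zero r)
  rw [← e, Nat.factorization_mul hS0 (by omega), Finsupp.add_apply,
    Nat.factorization_eq_zero_of_not_dvd hS, zero_add]

theorem factorization_degree {q r e d v : ℕ} [Fact r.Prime] (hq : 2 ≤ q) (hd : d = orderOf (q : ZMod r))
    (hd0 : 0 < d) (hv : v = (q ^ d - 1).factorization r) (hre : ¬ r ∣ e) :
    (q ^ e - 1).factorization r = if d ∣ e then v else 0 := by
  split_ifs with h
  · obtain ⟨k, rfl⟩ := h
    have hk : ¬ r ∣ k := fun hk => hre (hk.mul_left d)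
    rw [pow_mul, hv]
    refine factorization_pow_sub_one ?_ ?_ hk
    · calc 2 ≤ q := hq
        _ ≤ q ^ d := Nat.le_self_pow (by omega) q
    · rw [Nat.cast_pow, hd, pow_orderOf_eq_one]
  · exact Nat.factorization_eq_zero_of_not_dvd (not_dvd_pow_sub_one (by omega) (hd ▸ h))

theorem factorization_prod_degrees {q r d v : ℕ} [Fact r.Prime] (hq : 2 ≤ q) (hd : d = orderOf (q : ZMod r))
    (hd0 : 0 < d) (hv : v = (q ^ d - 1).factorization r) : ∀ ds : List ℕ, (∀ e ∈ ds, ¬ r ∣ e) →
    (ds.map fun e => q ^ e - 1).prod ≠ 0 ∧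
      ((ds.map fun e => q ^ e - 1).prod).factorization r = v * (ds.filter fun e => decide (d ∣ e)).length := by
  intro ds
  induction ds with
  | nil => simp
  | cons e ds ih =>
    intro hds
    obtain ⟨i0, i1⟩ := ih fun x hx => hds x (List.mem_cons_of_mem _ hx)
    have he := hds e List.mem_cons_self
    have he1 : 1 < q ^ e := Nat.one_lt_pow (fun h => he (h ▸ dvd_zero r)) (by omega)
    refine ⟨?_, ?_⟩
    · rw [List.map_cons, List.prod_cons]
      exact mul_ne_zero (by omega) i0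
    · rw [List.map_cons, List.prod_cons, Nat.factorization_mul (by omega) i0, Finsupp.add_apply,
        factorization_degree hq hd hd0 hv he, i1, List.filter_cons]
      by_cases h : d ∣ e <;> simp [h]
      ring

/-- The value of the cyclotomic polynomial carries the whole `r`-part of `q ^ d - 1`. -/
theorem padicValNat_cyclotomic {q r : ℕ} [Fact r.Prime] (hq : 2 ≤ q) (hd0 : 0 < orderOf (q : ZMod r)) :
    padicValNat r ((cyclotomic (orderOf (q : ZMod r)) ℤ).eval (q : ℤ)).natAbs =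
      (q ^ orderOf (q : ZMod r) - 1).factorization r := by
  set d := orderOf (q : ZMod r) with hd
  rw [← Nat.factorization_def _ Fact.out]
  have hprod := congrArg (eval (q : ℤ)) (prod_cyclotomic_eq_X_pow_sub_one hd0 ℤ)
  rw [eval_prod, eval_sub, eval_pow, eval_X, eval_one] at hprod
  have hn : ((q ^ d - 1 : ℕ) : ℤ) = (q : ℤ) ^ d - 1 := by
    rw [Nat.cast_sub (Nat.one_le_pow _ _ (by omega))]; simp
  have hne : (q ^ d - 1 : ℕ) ≠ 0 := by
    have : 1 < q ^ d := Nat.one_lt_pow (by omega) (by omega)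
    omega
  have habs : ∏ i ∈ d.divisors, ((cyclotomic i ℤ).eval (q : ℤ)).natAbs = q ^ d - 1 := by
    have := congrArg Int.natAbs (hprod.trans hn.symm)
    rw [Int.natAbs_natCast] at this
    rw [← this]
    exact (map_prod Int.natAbsHom _ _).symm
  have hall : ∀ i ∈ d.divisors, ((cyclotomic i ℤ).eval (q : ℤ)).natAbs ≠ 0 := by
    intro i hi h0
    exact hne (by rw [← habs]; exact Finset.prod_eq_zero hi h0)
  rw [← habs, Nat.factorization_prod hall, Finset.sum_apply', Finset.sum_eq_single d]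
  · intro i hi hid
    refine Nat.factorization_eq_zero_of_not_dvd fun hdvd => ?_
    obtain ⟨hid', -⟩ := Nat.mem_divisors.1 hi
    have hi0 : 0 < i := Nat.pos_of_mem_divisors hi
    refine not_dvd_pow_sub_one (q := q) (r := r) (e := i) (by omega) (fun h => ?_) ?_
    · exact hid (Nat.dvd_antisymm hid' h)
    · have h1 : (cyclotomic i ℤ).eval (q : ℤ) ∣ (q : ℤ) ^ i - 1 := by
        have := eval_dvd (x := (q : ℤ)) (cyclotomic.dvd_X_pow_sub_one i ℤ)
        simpa using this
      have h2 := Int.natAbs_dvd_natAbs.2 h1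
      have hi' : ((q : ℤ) ^ i - 1).natAbs = q ^ i - 1 := by
        rw [← Int.natAbs_natCast (q ^ i - 1), Nat.cast_sub (Nat.one_le_pow _ _ (by omega))]
        simp
      rw [hi'] at h2
      exact hdvd.trans h2
  · intro h
    exact absurd (Nat.mem_divisors.2 ⟨dvd_rfl, by omega⟩) h

end Cfsg.Agent.Lib.H59.Homocyclic
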